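import Cfsg.Agent.OddLocal.FixedLineBasic
import Cfsg.Agent.PrimeGraph.Lucido
import Cfsg.Agent.Signalizer.Basic
import Cfsg.Agent.Solvable.Fitting
import Cfsg.Agent.Solvable.PGroupBasic
import Cfsg.Prelude.Def_Amalgam

/-!
Tools for solvable groups without elements whose order is a product of three primes of a given set:
fixed points of Frobenius configurations, pairs of commuting elements of prime order, cores.
-/

set_option autoImplicit false
set_option linter.style.haveILetI false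
set_option linter.unusedSectionVars false

namespace CfsgLib.FourPrimes

open Subgroup Cfsg

universe u

variable {G : Type u} [Group G] [Finite G]

/-- No three pairwise commuting elements have three distinct orders from `σ`. -/
def NoTriple (G : Type u) [Group G] (σ : Set ℕ) : Prop :=
  ∀ a b c : G, orderOf a ∈ σ → orderOf b ∈ σ → orderOf c ∈ σ → orderOf a ≠ orderOf b →
    orderOf a ≠ orderOf c → orderOf b ≠ orderOf c → Commute a b → Commute a c → Commute b c → False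

/-- `K` contains an elementary abelian subgroup of order `t ^ 2`. -/
def HasSq (K : Subgroup G) (t : ℕ) : Prop :=
  ∃ E : Subgroup G, E ≤ K ∧ IsElementaryAbelian t E ∧ Nat.card E = t ^ 2

theorem exists_order {t : ℕ} [Fact t.Prime] {K : Subgroup G} (hK : IsPGroup t K) {x : G}
    (hx : x ∈ K) (hx1 : x ≠ 1) : ∃ k : ℕ, orderOf (x ^ k) = t := by
  obtain ⟨m, hm⟩ := IsPGroup.iff_orderOf.1 hK ⟨x, hx⟩
  rw [← Subgroup.orderOf_coe] at hm
  cases m with
  | zero => exact absurd (orderOf_eq_one_iff.1 (hm.trans (pow_zero t))) hx1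
  | succ m =>
    refine ⟨t ^ m, ?_⟩
    rw [orderOf_pow_of_dvd (pow_ne_zero _ (Fact.out : t.Prime).ne_zero)
      (by rw [hm]; exact pow_dvd_pow t (Nat.le_succ m)), hm, pow_succ]
    exact Nat.mul_div_cancel_left _ (pow_pos (Fact.out : t.Prime).pos m)

theorem ne_one_of_order {t : ℕ} [Fact t.Prime] {x : G} (hx : orderOf x = t) : x ≠ 1 := fun h =>
  (Fact.out : t.Prime).ne_one (by rw [← hx, h, orderOf_one])

theorem order_of_elem {t : ℕ} [Fact t.Prime] {E : Subgroup G} (hE : IsElementaryAbelian t E) {e : G}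
    (he : e ∈ E) (he1 : e ≠ 1) : orderOf e = t :=
  orderOf_eq_prime (hE.2 e he) he1

theorem NoTriple.eq_one {σ : Set ℕ} (h : NoTriple G σ) {s r t : ℕ} [Fact t.Prime] (hs : s ∈ σ)
    (hr : r ∈ σ) (ht : t ∈ σ) (hsr : s ≠ r) (hst : s ≠ t) (hrt : r ≠ t) {a b : G}
    (ha : orderOf a = s) (hb : orderOf b = r) (hab : Commute a b) {V : Subgroup G}
    (hV : IsPGroup t V) {y : G} (hy : y ∈ V) (hay : Commute a y) (hby : Commute b y) : y = 1 := by
  by_contra hy1
  obtain ⟨k, hk⟩ := exists_order hV hy hy1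
  exact h a b (y ^ k) (ha ▸ hs) (hb ▸ hr) (hk ▸ ht) (by rw [ha, hb]; exact hsr)
    (by rw [ha, hk]; exact hst) (by rw [hb, hk]; exact hrt) hab (hay.pow_right k) (hby.pow_right k)

theorem not_dvd_card {s t : ℕ} [Fact s.Prime] [Fact t.Prime] (hst : s ≠ t) {W : Subgroup G}
    (hW : IsPGroup t W) : ¬ s ∣ Nat.card W := by
  obtain ⟨k, hk⟩ := IsPGroup.iff_card.1 hW
  rw [hk]
  exact fun h => hst ((Nat.prime_dvd_prime_iff_eq Fact.out Fact.out).1 ((Fact.out : s.Prime).dvd_of_dvd_pow h))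

theorem coprime_card {s t : ℕ} [Fact s.Prime] [Fact t.Prime] (hst : s ≠ t) {U W : Subgroup G}
    (hU : IsPGroup s U) (hW : IsPGroup t W) : (Nat.card U).Coprime (Nat.card W) :=
  IsPGroup.coprime_card_of_ne s t hst _ _ hU hW

/-- Generation by centralizers of an elementary abelian group of order `s ^ 2`. -/
theorem gen {s : ℕ} [Fact s.Prime] {E W Y : Subgroup G} (hE : IsElementaryAbelian s E)
    (hE2 : Nat.card E = s ^ 2) (hEW : E ≤ normalizer (W : Set G)) (hW : ¬ s ∣ Nat.card W)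
    (h : ∀ e ∈ E, e ≠ 1 → ∀ w ∈ W, Commute e w → w ∈ Y) : W ≤ Y :=
  CfsgLib.Signalizer.le_of_forall_centralizer hE le_rfl hE2.ge hEW hW fun e he he1 w hw =>
    h e he he1 w hw.1 (mem_centralizer_singleton_iff.1 hw.2).symm

/-- Some nontrivial element of `E` fixes a nontrivial element of `W`. -/
theorem gen_ne_bot {s : ℕ} [Fact s.Prime] {E W : Subgroup G} (hE : IsElementaryAbelian s E)
    (hE2 : Nat.card E = s ^ 2) (hEW : E ≤ normalizer (W : Set G)) (hW : ¬ s ∣ Nat.card W)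
    (hW1 : W ≠ ⊥) : ∃ e ∈ E, e ≠ 1 ∧ ∃ w ∈ W, w ≠ 1 ∧ Commute e w := by
  by_contra h
  push Not at h
  refine hW1 (le_bot_iff.1 (gen hE hE2 hEW hW fun e he he1 w hw hc => mem_bot.2 ?_))
  by_contra hw1
  exact h e he he1 w hw hw1 hc

/-- Frobenius configurations: `U` centralizes `N` if the element `h` of prime order has no fixed
points on either. -/
theorem frob {t l : ℕ} [Fact t.Prime] [Fact l.Prime] (hlt : l ≠ t) {N U : Subgroup G}
    (hN : IsPGroup t N) {h : G} (hh : orderOf h = l) (hUN : U ≤ normalizer (N : Set G))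
    (hUc : (Nat.card U).Coprime (Nat.card N)) (hhU : h ∈ normalizer (U : Set G))
    (hhN : h ∈ normalizer (N : Set G)) (hU : ∀ w ∈ U, Commute h w → w = 1)
    (hfix : ∀ y ∈ N, Commute h y → y = 1) : ∀ w ∈ U, ∀ y ∈ N, Commute w y := by
  have hle : N ≤ N ⊓ centralizer (U : Set G) := by
    refine CfsgLib.OddLocal.FixedLine.le_of_frobenius hlt hN hh hUN hUc hhU hhN ?_ le_rfl fun v hv => ?_
    · exact (eq_bot_iff_forall _).2 fun w hw => hU w hw.1 (mem_centralizer_singleton_iff.1 hw.2).symm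
    · intro y hy
      have h1 : v⁻¹ * y * v ∈ N := by
        have := (mem_normalizer_iff.1 (inv_mem (hUN hv)) y).1 hy.1
        simpa using this
      have h2 : Commute (v * h * v⁻¹) y := (mem_centralizer_singleton_iff.1 hy.2).symm
      have h3 : Commute h (v⁻¹ * y * v) := by
        have h4 := h2.map (MulAut.conj v⁻¹).toMonoidHom
        simpa [mul_assoc] using h4
      have h5 := hfix _ h1 h3
      have : y = 1 := by
        calc y = v * (v⁻¹ * y * v) * v⁻¹ := by group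
          _ = 1 := by rw [h5]; group
      rw [this]
      exact one_mem _
  exact fun w hw y hy => mem_centralizer_iff.1 (hle hy).2 w hw

/-- The commutator of an element with an automorphism of coprime order on an abelian group is not
fixed. -/
theorem comm_trick {U : Subgroup G} (hU : ∀ a ∈ U, ∀ b ∈ U, Commute a b) {h : G}
    (hhU : h ∈ normalizer (U : Set G)) (hco : (orderOf h).Coprime (Nat.card U)) {y : G} (hy : y ∈ U)
    (hc : Commute h (h * y * h⁻¹ * y⁻¹)) : h * y * h⁻¹ * y⁻¹ = 1 := by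
  set c := h * y * h⁻¹ * y⁻¹ with hcdef
  have hcU : c ∈ U := mul_mem ((mem_normalizer_iff.1 hhU y).1 hy) (inv_mem hy)
  have key : ∀ i : ℕ, h ^ i * y * (h ^ i)⁻¹ = c ^ i * y := by
    intro i
    induction i with
    | zero => simp
    | succ i ih =>
      have e : h * c ^ i * h⁻¹ = c ^ i := by rw [(hc.pow_right i).eq, mul_inv_cancel_right]
      calc h ^ (i + 1) * y * (h ^ (i + 1))⁻¹ = h * (h ^ i * y * (h ^ i)⁻¹) * h⁻¹ := by
            rw [pow_succ']; group
        _ = (h * c ^ i * h⁻¹) * (h * y * h⁻¹) := by rw [ih]; group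
        _ = c ^ (i + 1) * y := by
            rw [e, pow_succ, hcdef]; group
  have h1 := key (orderOf h)
  rw [pow_orderOf_eq_one, one_mul, inv_one, mul_one] at h1
  have h2 : c ^ orderOf h = 1 := (mul_eq_right.1 h1.symm)
  rw [← orderOf_eq_one_iff]
  exact Nat.eq_one_of_dvd_coprimes hco (orderOf_dvd_of_pow_eq_one h2)
    (Subgroup.orderOf_dvd_natCard U hcU)

/-- `[U, e]` centralizes a group without fixed points of `e`. -/
theorem wlemma {l s r : ℕ} [Fact l.Prime] [Fact s.Prime] [Fact r.Prime] (hrl : r ≠ l) (hsl : s ≠ l)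
    (hsr : s ≠ r) {U V : Subgroup G} (hU : ∀ a ∈ U, ∀ b ∈ U, Commute a b) (hUr : IsPGroup r U)
    (hV : IsPGroup l V) {e : G} (he : orderOf e = s) (heU : e ∈ normalizer (U : Set G))
    (heV : e ∈ normalizer (V : Set G)) (hUV : U ≤ normalizer (V : Set G))
    (hfix : ∀ y ∈ V, Commute e y → y = 1) :
    ∀ w ∈ U, ∀ y ∈ V, Commute (e * w * e⁻¹ * w⁻¹) y := by
  have hmemU : ∀ w ∈ U, e * w * e⁻¹ ∈ U := fun w hw => (mem_normalizer_iff.1 heU w).1 hw
  let f : U →* G :=
    { toFun := fun w => e * w * e⁻¹ * (w : G)⁻¹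
      map_one' := by simp
      map_mul' := fun a b => by
        have h1 : Commute (e * (b : G) * e⁻¹) ((a : G)⁻¹) := (hU _ (hmemU b b.2) _ (inv_mem a.2))
        have h2 : Commute ((b : G)⁻¹) ((a : G)⁻¹) := hU _ (inv_mem b.2) _ (inv_mem a.2)
        calc e * ((a * b : U) : G) * e⁻¹ * ((a * b : U) : G)⁻¹
            = (e * a * e⁻¹) * ((e * b * e⁻¹) * ((b : G)⁻¹ * (a : G)⁻¹)) := by
              rw [Subgroup.coe_mul]; group
          _ = (e * a * e⁻¹) * ((e * b * e⁻¹) * ((a : G)⁻¹ * (b : G)⁻¹)) := by rw [h2.eq]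
          _ = (e * a * e⁻¹) * ((e * b * e⁻¹) * (a : G)⁻¹ * (b : G)⁻¹) := by group
          _ = (e * a * e⁻¹) * ((a : G)⁻¹ * (e * b * e⁻¹) * (b : G)⁻¹) := by rw [h1.eq]
          _ = e * a * e⁻¹ * (a : G)⁻¹ * (e * b * e⁻¹ * (b : G)⁻¹) := by group }
  have hfU : f.range ≤ U := by
    rintro _ ⟨w, rfl⟩
    exact mul_mem (hmemU w w.2) (inv_mem w.2)
  have hconj : ∀ c ∈ f.range, e * c * e⁻¹ ∈ f.range := by
    rintro _ ⟨w, rfl⟩
    refine ⟨⟨e * w * e⁻¹, hmemU w w.2⟩, ?_⟩
    show e * (e * (w : G) * e⁻¹) * e⁻¹ * (e * (w : G) * e⁻¹)⁻¹ = e * (e * w * e⁻¹ * (w : G)⁻¹) * e⁻¹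
    group
  have heW : e ∈ normalizer (f.range : Set G) := by
    rw [mem_normalizer_iff_map_conj_eq]
    refine eq_of_le_of_card_ge ?_ (card_map_of_injective (MulAut.conj e).injective).ge
    rintro _ ⟨c, hc, rfl⟩
    exact hconj c hc
  intro w hw
  refine frob hsl hV he (hfU.trans hUV) (coprime_card hrl (hUr.to_le hfU) hV) heW heV ?_ hfix _
    ⟨⟨w, hw⟩, rfl⟩
  rintro c ⟨v, rfl⟩ hc
  refine comm_trick hU heU ?_ v.2 hc
  rw [he]
  exact (Fact.out : s.Prime).coprime_iff_not_dvd.2 (not_dvd_card hsr hUr)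

/-- Two commuting independent elements of order `r` span an elementary abelian group of order `r^2`. -/
theorem exists_pair {r : ℕ} [Fact r.Prime] {u g : G} (hu : orderOf u = r) (hg : orderOf g = r)
    (hug : Commute u g) (hgu : g ∉ zpowers u) :
    ∃ E : Subgroup G, IsElementaryAbelian r E ∧ Nat.card E = r ^ 2 ∧ u ∈ E ∧ g ∈ E ∧
      (∀ x ∈ E, ∃ i j : ℕ, x = u ^ i * g ^ j) ∧ ∀ L : Subgroup G, u ∈ L → g ∈ L → E ≤ L := by
  have hnorm : zpowers g ≤ normalizer (zpowers u : Set G) := by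
    refine le_trans (zpowers_le.2 ?_) (centralizer_le_normalizer _)
    rw [mem_centralizer_iff]
    intro x hx
    obtain ⟨i, rfl⟩ := mem_zpowers_iff.1 hx
    exact (hug.zpow_left i).eq
  have hdis : zpowers g ⊓ zpowers u = ⊥ := by
    rw [eq_bot_iff]
    rintro x ⟨hxg, hxu⟩
    rw [mem_bot]
    by_contra hx1
    refine hgu ?_
    have hxo : orderOf x = r := by
      have hd := orderOf_dvd_of_mem_zpowers hxg
      rw [hg] at hd
      exact ((Nat.dvd_prime Fact.out).1 hd).resolve_left fun h => hx1 (orderOf_eq_one_iff.1 h)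
    have : zpowers x = zpowers g := eq_of_le_of_card_ge (zpowers_le.2 hxg)
      (by rw [Nat.card_zpowers, Nat.card_zpowers, hxo, hg])
    exact (zpowers_le.2 hxu) (this.symm ▸ mem_zpowers g)
  have hmem : ∀ x ∈ zpowers g ⊔ zpowers u, ∃ i j : ℕ, x = u ^ i * g ^ j := by
    intro x hx
    have hx' : x ∈ ((zpowers g ⊔ zpowers u : Subgroup G) : Set G) := hx
    rw [coe_mul_of_left_le_normalizer_right _ _ hnorm] at hx'
    obtain ⟨a, ha, b, hb, rfl⟩ := hx'
    obtain ⟨j, rfl⟩ := mem_powers_iff_mem_zpowers.2 ha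
    obtain ⟨i, rfl⟩ := mem_powers_iff_mem_zpowers.2 hb
    exact ⟨i, j, (hug.pow_pow i j).eq.symm⟩
  refine ⟨zpowers g ⊔ zpowers u, ⟨⟨⟨fun a b => Subtype.ext ?_⟩⟩, fun a ha => ?_⟩, ?_,
    mem_sup_right (mem_zpowers u), mem_sup_left (mem_zpowers g), hmem,
    fun L h1 h2 => sup_le (zpowers_le.2 h2) (zpowers_le.2 h1)⟩
  · obtain ⟨i, j, hij⟩ := hmem a a.2
    obtain ⟨k, l, hkl⟩ := hmem b b.2
    show (a : G) * b = b * a
    rw [hij, hkl]
    exact (((Commute.refl u).pow_pow i k).mul_right (hug.pow_pow i l)).mul_left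
      ((hug.symm.pow_pow j k).mul_right ((Commute.refl g).pow_pow j l)) |>.eq
  · obtain ⟨i, j, rfl⟩ := hmem a ha
    rw [(hug.pow_pow i j).mul_pow, pow_right_comm, ← hu, pow_orderOf_eq_one, one_pow, hu,
      pow_right_comm, ← hg, pow_orderOf_eq_one, one_pow, one_mul]
  · rw [CfsgLib.Solvable.card_sup_of_disjoint hnorm hdis, Nat.card_zpowers, Nat.card_zpowers, hu, hg,
      pow_two]

/-- If `g` is conjugate to `g * u` and `u` has no fixed points on `V`, then `g` has fixed points. -/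
theorem trick_fix {t r : ℕ} [Fact t.Prime] [Fact r.Prime] (htr : r ≠ t) {V : Subgroup G}
    (hV : IsPGroup t V) (hV1 : V ≠ ⊥) {u g x : G} (hu : orderOf u = r) (hg : orderOf g = r)
    (hug : Commute u g) (hgu : g ∉ zpowers u) (huV : u ∈ normalizer (V : Set G))
    (hgV : g ∈ normalizer (V : Set G)) (hxV : x ∈ normalizer (V : Set G)) (hxu : Commute x u)
    (hx : x * g * x⁻¹ = g * u) (hfix : ∀ y ∈ V, Commute u y → y = 1) :
    ∃ y ∈ V, y ≠ 1 ∧ Commute g y := by
  obtain ⟨E, hE, hE2, -, -, hmem, hle⟩ := exists_pair hu hg hug hgu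
  obtain ⟨e, he, he1, w, hw, hw1, hew⟩ :=
    gen_ne_bot hE hE2 (hle _ huV hgV) (not_dvd_card htr hV) hV1
  obtain ⟨i, j, rfl⟩ := hmem e he
  by_cases hj : r ∣ j
  · have hgj : g ^ j = 1 := orderOf_dvd_iff_pow_eq_one.1 (hg.symm ▸ hj)
    rw [hgj, mul_one] at hew he1
    have hri : ¬ r ∣ i := fun h => he1 (orderOf_dvd_iff_pow_eq_one.1 (hu.symm ▸ h))
    obtain ⟨m, hm⟩ := exists_pow_eq_self_of_coprime (x := u) (n := i)
      (by rw [hu]; exact ((Fact.out : r.Prime).coprime_iff_not_dvd.2 hri).symm)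
    exact absurd (hfix w hw (hm ▸ hew.pow_left m)) hw1
  · obtain ⟨m, hm⟩ := exists_pow_eq_self_of_coprime (x := g) (n := j)
      (by rw [hg]; exact ((Fact.out : r.Prime).coprime_iff_not_dvd.2 hj).symm)
    have hc : Commute (g * (u ^ i) ^ m) w := by
      have h1 := hew.pow_left m
      rwa [(hug.pow_pow i j).mul_pow, hm, ((hug.pow_left i).pow_left m).eq] at h1
    have key : ∀ k : ℕ, x ^ k * g * (x ^ k)⁻¹ = g * u ^ k := by
      intro k
      induction k with
      | zero => simp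
      | succ k ih =>
        calc x ^ (k + 1) * g * (x ^ (k + 1))⁻¹ = x * (x ^ k * g * (x ^ k)⁻¹) * x⁻¹ := by
              rw [pow_succ']; group
          _ = (x * g * x⁻¹) * (x * u ^ k * x⁻¹) := by rw [ih]; group
          _ = g * u ^ (k + 1) := by
              rw [hx, (hxu.pow_right k).eq, mul_inv_cancel_right, pow_succ', mul_assoc]
    rw [← pow_mul, ← key] at hc
    refine ⟨(x ^ (i * m))⁻¹ * w * x ^ (i * m), ?_, fun h => hw1 ?_, ?_⟩
    · have := (mem_normalizer_iff.1 (inv_mem (pow_mem hxV (i * m))) w).1 hw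
      simpa using this
    · calc w = x ^ (i * m) * ((x ^ (i * m))⁻¹ * w * x ^ (i * m)) * (x ^ (i * m))⁻¹ := by group
        _ = 1 := by rw [h]; group
    · show g * ((x ^ (i * m))⁻¹ * w * x ^ (i * m)) = (x ^ (i * m))⁻¹ * w * x ^ (i * m) * g
      calc g * ((x ^ (i * m))⁻¹ * w * x ^ (i * m))
          = (x ^ (i * m))⁻¹ * (x ^ (i * m) * g * (x ^ (i * m))⁻¹ * w) * x ^ (i * m) := by group
        _ = (x ^ (i * m))⁻¹ * (w * (x ^ (i * m) * g * (x ^ (i * m))⁻¹)) * x ^ (i * m) := by rw [hc.eq]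
        _ = _ := by group

/-- A nontrivial normal subgroup of a `p`-group outside `M` contains an element central modulo `M`. -/
theorem exists_center_lift {P : Type u} [Group P] [Finite P] {t : ℕ} [Fact t.Prime] (hP : IsPGroup t P)
    (M N : Subgroup P) [M.Normal] [N.Normal] (h : ¬ N ≤ M) :
    ∃ a ∈ N, a ∉ M ∧ ∀ x : P, x * a * x⁻¹ * a⁻¹ ∈ M := by
  let f := QuotientGroup.mk' M
  haveI : (N.map f).Normal := Subgroup.Normal.map inferInstance f (QuotientGroup.mk'_surjective M)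
  haveI := (hP.to_quotient M).isNilpotent
  have hne : N.map f ≠ ⊥ := fun hb => h (((map_eq_bot_iff N).1 hb).trans (QuotientGroup.ker_mk' M).le)
  obtain ⟨c, hc, hc1⟩ := (ne_bot_iff_exists_ne_one.1 (CfsgLib.PGroupBasic.inf_center_ne_bot _ hne))|>
    fun ⟨c, hc⟩ => (⟨c.1, c.2, fun e => hc (Subtype.ext e)⟩ : ∃ c, c ∈ N.map f ⊓ center _ ∧ c ≠ 1)
  obtain ⟨a, ha, rfl⟩ := hc.1
  refine ⟨a, ha, fun hM => hc1 ((QuotientGroup.eq_one_iff a).2 hM), fun x => ?_⟩
  rw [← QuotientGroup.eq_one_iff]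
  show f (x * a * x⁻¹ * a⁻¹) = 1
  rw [map_mul, map_mul, map_mul, map_inv, map_inv, mem_center_iff.1 hc.2 (f x), mul_inv_cancel_right,
    mul_inv_cancel]

open CfsgLib.Lucido in
/-- If `Ω₁(Z(T))` has order `r` but `T` is not of rank one, some element of order `r` is conjugate to its
product with the central element. -/
theorem exists_conj_mul {r : ℕ} [Fact r.Prime] {T : Subgroup G} (hT : IsPGroup r T) {u : G}
    (hu : orderOf u = r) (huT : u ∈ omegaCenter T r) (huniq : omegaCenter T r ≤ zpowers u)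
    (hex : ∃ g ∈ T, orderOf g = r ∧ g ∉ zpowers u) :
    ∃ g ∈ T, orderOf g = r ∧ g ∉ zpowers u ∧ ∃ x ∈ T, x * g * x⁻¹ = g * u := by
  classical
  obtain ⟨g₀, hg₀⟩ := hex
  obtain ⟨g, ⟨hgT, hgo, hgu⟩, hmax⟩ := Set.exists_max_image {g : G | g ∈ T ∧ orderOf g = r ∧ g ∉ zpowers u}
    (fun g => Nat.card ↥(T ⊓ centralizer ({g} : Set G))) (Set.toFinite _) ⟨g₀, hg₀⟩
  obtain ⟨C, hC⟩ : ∃ C, T ⊓ centralizer ({g} : Set G) = C := ⟨_, rfl⟩
  have hCT : C ≤ T := hC ▸ inf_le_left
  have hgC : g ∈ C := hC ▸ ⟨hgT, mem_centralizer_singleton_iff.2 rfl⟩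
  have hCg : ∀ y ∈ C, Commute y g := fun y hy => mem_centralizer_singleton_iff.1 (hC ▸ hy : y ∈ T ⊓ _).2
  have hCne : C < T := by
    refine lt_of_le_of_ne hCT fun h => hgu (huniq ⟨hgT, fun y hy => hCg y (h.symm ▸ hy), ?_⟩)
    rw [← hgo, pow_orderOf_eq_one]
  haveI := hT.isNilpotent
  obtain ⟨x, hxT, hxC, hxN⟩ : ∃ x ∈ T, x ∉ C ∧ x ∈ normalizer (C : Set G) := by
    have h1 : C.subgroupOf T < ⊤ := lt_top_iff_ne_top.2 fun h => hCne.not_ge (subgroupOf_eq_top.1 h)
    have h2 := Group.normalizerCondition_of_isNilpotent (C.subgroupOf T) h1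
    obtain ⟨x, hx, hx'⟩ := SetLike.exists_of_lt h2
    refine ⟨x, x.2, fun h => hx' (mem_subgroupOf.2 h), ?_⟩
    rw [← zpowers_le]
    refine zpowers_le.2 ?_
    rw [mem_normalizer_iff]
    intro y
    constructor
    · intro hy
      have := (mem_normalizer_iff.1 hx ⟨y, hCT hy⟩).1 (mem_subgroupOf.2 hy)
      simpa [mem_subgroupOf] using this
    · intro hy
      have hyT : y ∈ T := by
        have := mul_mem (mul_mem (inv_mem x.2) (hCT hy)) x.2
        simpa [mul_assoc] using this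
      have := (mem_normalizer_iff.1 hx ⟨y, hyT⟩).2 (by simpa [mem_subgroupOf] using hy)
      simpa [mem_subgroupOf] using this
  obtain ⟨W, hW⟩ : ∃ W, omegaCenter C r = W := ⟨_, rfl⟩
  have hWC : W ≤ C := fun w hw => (hW ▸ hw : w ∈ omegaCenter C r).1
  have huC : u ∈ C := hC ▸ ⟨huT.1, mem_centralizer_singleton_iff.2 (huT.2.1 g hgT).eq.symm⟩
  have hgW : g ∈ W := hW ▸ ⟨hgC, hCg, by rw [← hgo, pow_orderOf_eq_one]⟩
  obtain ⟨H, hH⟩ : ∃ H, C ⊔ zpowers x = H := ⟨_, rfl⟩
  have hCH : C ≤ H := hH ▸ le_sup_left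
  have hxH : x ∈ H := hH ▸ mem_sup_right (mem_zpowers x)
  have hHT : H ≤ T := hH ▸ sup_le hCT (zpowers_le.2 hxT)
  have hHW : H ≤ normalizer (W : Set G) :=
    hW ▸ (hH ▸ sup_le le_normalizer (zpowers_le.2 hxN)).trans (normalizer_le_omegaCenter C r)
  haveI : ((zpowers u).subgroupOf H).Normal := ⟨fun n hn y => by
    rw [mem_subgroupOf] at hn ⊢
    obtain ⟨i, hi⟩ := mem_zpowers_iff.1 hn
    rw [Subgroup.coe_mul, Subgroup.coe_mul, Subgroup.coe_inv, ← hi,
      ((huT.2.1 y (hHT y.2)).zpow_right i).eq, mul_inv_cancel_right]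
    exact zpow_mem (mem_zpowers u) i⟩
  haveI : (W.subgroupOf H).Normal := ⟨fun n hn y => by
    rw [mem_subgroupOf] at hn ⊢
    simpa using (mem_normalizer_iff.1 (hHW y.2) n).1 hn⟩
  obtain ⟨a, haW, hau, hacen⟩ := exists_center_lift (hT.to_le hHT) ((zpowers u).subgroupOf H)
    (W.subgroupOf H) fun h => hgu (mem_subgroupOf.1 (h (x := ⟨g, hCH hgC⟩) (mem_subgroupOf.2 hgW)))
  rw [mem_subgroupOf] at haW hau
  have haC : (a : G) ∈ omegaCenter C r := hW.symm ▸ haW
  have hao : orderOf (a : G) = r := orderOf_eq_prime haC.2.2 fun h => hau (h ▸ one_mem _)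
  obtain ⟨c, hc⟩ := mem_zpowers_iff.1 (mem_subgroupOf.1 (hacen ⟨x, hxH⟩))
  have hc' : u ^ c = x * (a : G) * x⁻¹ * (a : G)⁻¹ := hc
  have hne : u ^ c ≠ 1 := by
    intro h1
    rw [h1, eq_comm, mul_inv_eq_one, mul_inv_eq_iff_eq_mul] at hc'
    have hle : C ⊔ zpowers x ≤ T ⊓ centralizer ({(a : G)} : Set G) :=
      sup_le (fun y hy => ⟨hCT hy, mem_centralizer_singleton_iff.2 (haC.2.1 y hy).eq⟩)
        (zpowers_le.2 ⟨hxT, mem_centralizer_singleton_iff.2 hc'⟩)
    have h2 := hmax (a : G) ⟨hCT (hWC haW), hao, hau⟩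
    simp only [hC] at h2
    exact hxC ((eq_of_le_of_card_ge (le_sup_left.trans hle) h2).symm.le (hle (mem_sup_right (mem_zpowers x))))
  have huc : u ∈ zpowers (u ^ c) := by
    have : zpowers (u ^ c) = zpowers u := eq_of_le_of_card_ge (zpowers_le.2 (zpow_mem (mem_zpowers u) c))
      (by
        have hd := orderOf_dvd_of_mem_zpowers (zpow_mem (mem_zpowers u) c)
        rw [hu] at hd
        rw [Nat.card_zpowers, Nat.card_zpowers, hu,
          ((Nat.dvd_prime Fact.out).1 hd).resolve_left fun h => hne (orderOf_eq_one_iff.1 h)])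
    exact this.symm ▸ mem_zpowers u
  obtain ⟨k, hk⟩ := mem_powers_iff_mem_zpowers.2 huc
  have hxu : Commute x u := huT.2.1 x hxT
  have hau' : Commute (a : G) (u ^ c) := (huT.2.1 _ (hCT (hWC haW))).zpow_right c
  have e1 : x * (a : G) * x⁻¹ = (a : G) * u ^ c := by
    rw [hau'.eq, hc']; group
  refine ⟨a, hCT (hWC haW), hao, hau, x ^ k, pow_mem hxT k, ?_⟩
  have key : ∀ k : ℕ, x ^ k * (a : G) * (x ^ k)⁻¹ = (a : G) * (u ^ c) ^ k := by
    intro k
    induction k with
    | zero => simp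
    | succ k ih =>
      calc x ^ (k + 1) * (a : G) * (x ^ (k + 1))⁻¹ = x * (x ^ k * a * (x ^ k)⁻¹) * x⁻¹ := by
            rw [pow_succ']; group
        _ = (x * a * x⁻¹) * (x * (u ^ c) ^ k * x⁻¹) := by rw [ih]; group
        _ = _ := by
            rw [e1, ((hxu.zpow_right c).pow_right k).eq, mul_inv_cancel_right, pow_succ', mul_assoc]
  rw [key]
  exact congrArg _ hk

/-- An element centralizing a normal subgroup of prime order in a `p`-group. -/
theorem central_of_pgroup {t : ℕ} [Fact t.Prime] {T : Subgroup G} (hT : IsPGroup t T) {u : G}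
    (hu : orderOf u = t) (huT : u ∈ T) (hn : T ≤ normalizer (zpowers u : Set G)) :
    ∀ x ∈ T, Commute x u := by
  haveI := hT.isNilpotent
  haveI : ((zpowers u).subgroupOf T).Normal := ⟨fun n hn' y => by
    rw [mem_subgroupOf] at hn' ⊢
    simpa using (mem_normalizer_iff.1 (hn y.2) n).1 hn'⟩
  have hne : (zpowers u).subgroupOf T ≠ ⊥ := fun h => ne_one_of_order hu (by
    have hm : (⟨u, huT⟩ : T) ∈ (zpowers u).subgroupOf T := mem_subgroupOf.2 (mem_zpowers u)
    rw [h, mem_bot] at hm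
    exact congrArg Subtype.val hm)
  obtain ⟨⟨c, hc⟩, hc1⟩ := ne_bot_iff_exists_ne_one.1 (CfsgLib.PGroupBasic.inf_center_ne_bot _ hne)
  have hcu : ((c : T) : G) ∈ zpowers u := mem_subgroupOf.1 hc.1
  have hcne : ((c : T) : G) ≠ 1 := fun h => hc1 (Subtype.ext (Subtype.ext h))
  have : zpowers ((c : T) : G) = zpowers u := eq_of_le_of_card_ge (zpowers_le.2 hcu) (by
    have hd := orderOf_dvd_of_mem_zpowers hcu
    rw [hu] at hd
    rw [Nat.card_zpowers, Nat.card_zpowers, hu,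
      ((Nat.dvd_prime Fact.out).1 hd).resolve_left fun h => hcne (orderOf_eq_one_iff.1 h)])
  intro x hx
  obtain ⟨i, hi⟩ := mem_zpowers_iff.1 (this.symm ▸ mem_zpowers u : u ∈ zpowers ((c : T) : G))
  rw [← hi]
  exact Commute.zpow_right (congrArg Subtype.val (mem_center_iff.1 hc.2 ⟨x, hx⟩)) i

/-- An element of prime order `s` inducing a nontrivial power map on a subgroup of order `t`. -/
theorem dvd_sub_one {s t : ℕ} [Fact s.Prime] [Fact t.Prime] {e u : G} (he : orderOf e = s)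
    (hu : orderOf u = t) (hn : e ∈ normalizer (zpowers u : Set G)) (hc : ¬ Commute e u) :
    s ∣ t - 1 := by
  obtain ⟨k, hk⟩ := mem_powers_iff_mem_zpowers.2 ((mem_normalizer_iff.1 hn u).1 (mem_zpowers u))
  have hk' : u ^ k = e * u * e⁻¹ := hk
  have key : ∀ i : ℕ, e ^ i * u * (e ^ i)⁻¹ = u ^ k ^ i := by
    intro i
    induction i with
    | zero => simp
    | succ i ih =>
      calc e ^ (i + 1) * u * (e ^ (i + 1))⁻¹ = e * (e ^ i * u * (e ^ i)⁻¹) * e⁻¹ := by
            rw [pow_succ']; group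
        _ = u ^ k ^ (i + 1) := by
            rw [ih, ← conj_pow, ← hk', ← pow_mul, pow_succ']
  have h1 := key s
  rw [← he, pow_orderOf_eq_one, one_mul, inv_one, mul_one, he] at h1
  haveI : NeZero t := ⟨(Fact.out : t.Prime).ne_zero⟩
  have hks : ((k : ZMod t)) ^ s = 1 := by
    have h2 : u ^ k ^ s = u ^ 1 := by rw [pow_one]; exact h1.symm
    rw [pow_eq_pow_iff_modEq, hu] at h2
    rw [← Nat.cast_pow, ← Nat.cast_one]
    exact (ZMod.natCast_eq_natCast_iff _ _ _).2 h2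
  have hk1 : (k : ZMod t) ≠ 1 := by
    intro h
    refine hc ?_
    rw [← Nat.cast_one, ZMod.natCast_eq_natCast_iff] at h
    have : u ^ k = u ^ 1 := pow_eq_pow_iff_modEq.2 (hu.symm ▸ h)
    rw [pow_one, hk'] at this
    exact mul_inv_eq_iff_eq_mul.1 this
  have ho : orderOf (k : ZMod t) = s := orderOf_eq_prime hks hk1
  have hk0 : (k : ZMod t) ≠ 0 := fun h => by
    rw [h, zero_pow (Fact.out : s.Prime).ne_zero] at hks; exact zero_ne_one hks
  exact ho ▸ ZMod.orderOf_dvd_card_sub_one hk0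

theorem core_le (L : Subgroup G) (t : ℕ) : pCoreOf t L ≤ L := map_subtype_le _

theorem isPGroup_core (L : Subgroup G) (t : ℕ) : IsPGroup t (pCoreOf t L) :=
  (CfsgLib.Solvable.isPGroup_pCore t).map _

theorem le_normalizer_core (L : Subgroup G) (t : ℕ) : L ≤ normalizer (pCoreOf t L : Set G) := by
  intro x hx
  rw [mem_normalizer_iff_map_conj_eq]
  refine eq_of_le_of_card_ge ?_ (card_map_of_injective (MulAut.conj x).injective).ge
  rintro _ ⟨_, ⟨n, hn, rfl⟩, rfl⟩
  exact ⟨⟨x, hx⟩ * n * ⟨x, hx⟩⁻¹, Normal.conj_mem inferInstance n hn _, rfl⟩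

theorem le_core {L N : Subgroup G} {t : ℕ} (hNL : N ≤ L) (hN : IsPGroup t N)
    (hn : L ≤ normalizer (N : Set G)) : N ≤ pCoreOf t L := by
  haveI : (N.subgroupOf L).Normal := ⟨fun n hn' y => by
    rw [mem_subgroupOf] at hn' ⊢
    simpa using (mem_normalizer_iff.1 (hn y.2) n).1 hn'⟩
  have h := CfsgLib.Solvable.le_pCore (G := L) (p := t) (N := N.subgroupOf L) inferInstance
    (hN.of_equiv (subgroupOfEquivOfLe hNL).symm)
  rw [← map_subgroupOf_eq_of_le hNL]
  exact map_mono h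

open CfsgLib.Lucido in
/-- An element of prime power order centralizing all cores of a solvable group lies in the core of
its prime. -/
theorem mem_core {L : Subgroup G} (hL : Group.IsSolvable L) {s : ℕ} [Fact s.Prime] {x : G}
    (hx : x ∈ L) {k : ℕ} (hxs : x ^ s ^ k = 1)
    (h : ∀ t : ℕ, t.Prime → ∀ y ∈ pCoreOf t L, Commute x y) : x ∈ pCoreOf s L := by
  haveI := hL
  have hcent : (⟨x, hx⟩ : L) ∈ centralizer (Cfsg.fittingSubgroup L : Set L) := by
    rw [CfsgLib.Solvable.fittingSubgroup_eq_iSup_pCore]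
    suffices h' : (⨆ q : Nat.Primes, Cfsg.pCore (q : ℕ) L) ≤ centralizer ({(⟨x, hx⟩ : L)} : Set L) from
      mem_centralizer_iff.2 fun y hy => (mem_centralizer_singleton_iff.1 (h' hy))
    refine iSup_le fun q y hy => mem_centralizer_singleton_iff.2 (Subtype.ext ?_)
    exact (h q q.2 y ⟨y, hy, rfl⟩).symm
  have hF := CfsgLib.Fitting.centralizer_fittingSubgroup_le_of_solvable hcent
  obtain ⟨Z, hZ⟩ : ∃ Z, omegaCenter (Cfsg.fittingSubgroup L) (s ^ k) = Z := ⟨_, rfl⟩
  have hxZ : (⟨x, hx⟩ : L) ∈ Z := hZ ▸ ⟨hF, fun y hy => mem_centralizer_iff.1 hcent y hy,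
    Subtype.ext (by simpa using hxs)⟩
  have hZn : Z.Normal := by
    rw [← normalizer_eq_top_iff, eq_top_iff, ← hZ]
    refine le_trans ?_ (normalizer_le_omegaCenter _ _)
    rw [normalizer_eq_top]
  have hZp : IsPGroup s Z := fun z => ⟨k, Subtype.ext (by
    simpa using ((hZ ▸ z.2 : (z : L) ∈ omegaCenter (Cfsg.fittingSubgroup L) (s ^ k))).2.2)⟩
  exact ⟨⟨x, hx⟩, CfsgLib.Solvable.le_pCore s hZn hZp hxZ, rfl⟩

end CfsgLib.FourPrimes
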