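import Cfsg.Agent.FourPrimes.Basic
import Cfsg.Agent.InvChar.UniqueInvolution

/-!
The case of a Fitting subgroup with two primes: `L` is a `{r, s}`-group acting on the commuting groups
`P` and `Q`, faithfully on their product.
-/

set_option autoImplicit false
set_option linter.style.haveILetI false
set_option linter.unusedSectionVars false

namespace CfsgLib.FourPrimes

open Subgroup Cfsg CfsgLib.Lucido

universe u

variable {G : Type u} [Group G] [Finite G]

/-- The configuration of the case. -/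
structure TwoFitting (σ : Set ℕ) (p q r s : ℕ) (L P Q : Subgroup G) : Prop where
  no : NoTriple G σ
  mp : p ∈ σ
  mq : q ∈ σ
  mr : r ∈ σ
  ms : s ∈ σ
  pq : p ≠ q
  pr : p ≠ r
  ps : p ≠ s
  qr : q ≠ r
  qs : q ≠ s
  rs : r ≠ s
  hP : IsPGroup p P
  hQ : IsPGroup q Q
  hP1 : P ≠ ⊥
  hQ1 : Q ≠ ⊥
  comm : ∀ y ∈ P, ∀ z ∈ Q, Commute y z
  nP : L ≤ normalizer (P : Set G)
  nQ : L ≤ normalizer (Q : Set G)
  faith : ∀ x ∈ L, (∀ y ∈ P, Commute x y) → (∀ z ∈ Q, Commute x z) → x = 1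
  sol : Group.IsSolvable L
  supp : ∀ t : ℕ, t.Prime → t ∣ Nat.card L → t = r ∨ t = s
  sqr : HasSq L r
  sqs : HasSq L s

theorem TwoFitting.symm {σ : Set ℕ} {p q r s : ℕ} {L P Q : Subgroup G}
    (c : TwoFitting σ p q r s L P Q) : TwoFitting σ p q s r L P Q :=
  ⟨c.no, c.mp, c.mq, c.ms, c.mr, c.pq, c.ps, c.pr, c.qs, c.qr, c.rs.symm, c.hP, c.hQ, c.hP1, c.hQ1,
    c.comm, c.nP, c.nQ, c.faith, c.sol, fun t ht hd => (c.supp t ht hd).symm, c.sqs, c.sqr⟩

theorem TwoFitting.swap {σ : Set ℕ} {p q r s : ℕ} {L P Q : Subgroup G}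
    (c : TwoFitting σ p q r s L P Q) : TwoFitting σ q p r s L Q P :=
  ⟨c.no, c.mq, c.mp, c.mr, c.ms, c.pq.symm, c.qr, c.qs, c.pr, c.ps, c.rs, c.hQ, c.hP, c.hQ1, c.hP1,
    fun y hy z hz => (c.comm z hz y hy).symm, c.nQ, c.nP, fun x hx h1 h2 => c.faith x hx h2 h1,
    c.sol, c.supp, c.sqr, c.sqs⟩

variable {σ : Set ℕ} {p q r s : ℕ} [Fact p.Prime] [Fact q.Prime] [Fact r.Prime] [Fact s.Prime]
  {L P Q : Subgroup G}

theorem TwoFitting.no_both (c : TwoFitting σ p q r s L P Q) {e y z : G} (he : orderOf e = s)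
    (hy : y ∈ P) (hz : z ∈ Q) (hey : Commute e y) (hez : Commute e z) (hy1 : y ≠ 1) : z = 1 := by
  obtain ⟨k, hk⟩ := exists_order c.hP hy hy1
  exact c.no.eq_one c.ms c.mp c.mq c.ps.symm c.qs.symm c.pq he hk (hey.pow_right k) c.hQ hz hez
    ((c.comm y hy z hz).pow_left k)

/-- A normal `r`-subgroup of `L` acts faithfully on `P`. -/
theorem TwoFitting.faith_left (c : TwoFitting σ p q r s L P Q) {U : Subgroup G} (hUL : U ≤ L)
    (hU : IsPGroup r U) (hUn : L ≤ normalizer (U : Set G)) : ∀ w ∈ U, (∀ y ∈ P, Commute w y) → w = 1 := by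
  by_contra hcon
  push Not at hcon
  obtain ⟨w₀, hw₀U, hw₀P, hw₀1⟩ := hcon
  obtain ⟨E, hEL, hE, hE2⟩ := c.sqs
  obtain ⟨W, hW⟩ : ∃ W, U ⊓ centralizer (P : Set G) = W := ⟨_, rfl⟩
  have hWU : W ≤ U := hW ▸ inf_le_left
  have hWP : ∀ w ∈ W, ∀ y ∈ P, Commute w y := fun w hw y hy =>
    (mem_centralizer_iff.1 (hW ▸ hw : w ∈ U ⊓ _).2 y hy).symm
  have hWn : L ≤ normalizer (W : Set G) := hW ▸ (le_inf hUn c.nP).trans (fun x hx => by
    rw [mem_normalizer_iff_map_conj_eq, map_inf _ _ _ (MulAut.conj x).injective,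
      mem_normalizer_iff_map_conj_eq.1 hx.1]
    refine congrArg _ (eq_of_le_of_card_ge ?_ (card_map_of_injective (MulAut.conj x).injective).ge)
    rintro _ ⟨z, hz, rfl⟩
    refine mem_centralizer_iff.2 fun y hy => ?_
    have h1 : x⁻¹ * y * x ∈ P := by
      have := (mem_normalizer_iff.1 (inv_mem hx.2) y).1 hy
      simpa using this
    have h2 := mem_centralizer_iff.1 hz _ h1
    show y * (x * z * x⁻¹) = x * z * x⁻¹ * y
    calc y * (x * z * x⁻¹) = x * ((x⁻¹ * y * x) * z) * x⁻¹ := by group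
      _ = x * (z * (x⁻¹ * y * x)) * x⁻¹ := by rw [h2]
      _ = _ := by group)
  have hall : ∀ e ∈ E, e ≠ 1 → ∀ y ∈ P, Commute e y → y = 1 := by
    intro e he he1 y hy hey
    have heo := order_of_elem hE he he1
    by_cases hw : ∃ w ∈ W, w ≠ 1 ∧ Commute e w
    · obtain ⟨w, hw, hw1, hew⟩ := hw
      obtain ⟨k, hk⟩ := exists_order (hU.to_le hWU) hw hw1
      exact c.no.eq_one c.ms c.mr c.mp c.rs.symm c.ps.symm c.pr.symm heo hk (hew.pow_right k) c.hP hy
        hey ((hWP w hw y hy).pow_left k)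
    push Not at hw
    by_contra hy1
    have hfQ : ∀ z ∈ Q, Commute e z → z = 1 := fun z hz hez => c.no_both heo hy hz hey hez hy1
    have hcen := frob c.qs.symm c.hQ heo ((hWU.trans hUL).trans c.nQ)
      (coprime_card c.qr.symm (hU.to_le hWU) c.hQ) (hWn (hEL he)) (c.nQ (hEL he))
      (fun w hw' hc => by_contra fun h1 => hw w hw' h1 hc) hfQ
    have hw₀W : w₀ ∈ W := hW ▸ ⟨hw₀U, mem_centralizer_iff.2 fun y hy => (hw₀P y hy).eq.symm⟩
    exact hw₀1 (c.faith w₀ (hUL hw₀U) hw₀P (hcen w₀ hw₀W))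
  obtain ⟨e, he, he1, y, hy, hy1, hey⟩ :=
    gen_ne_bot hE hE2 (hEL.trans c.nP) (not_dvd_card c.ps.symm c.hP) c.hP1
  exact hy1 (hall e he he1 y hy hey)

/-- An abelian normal `r`-subgroup is centralized by every `s ^ 2`-subgroup of `L`. -/
theorem TwoFitting.centralizes (c : TwoFitting σ p q r s L P Q) {U : Subgroup G} (hUL : U ≤ L)
    (hU : IsPGroup r U) (hUab : ∀ a ∈ U, ∀ b ∈ U, Commute a b) (hUn : L ≤ normalizer (U : Set G))
    {E : Subgroup G} (hEL : E ≤ L) (hE : IsElementaryAbelian s E) :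
    ∀ e ∈ E, ∀ w ∈ U, Commute e w := by
  intro e he w hw
  rcases eq_or_ne e 1 with rfl | he1
  · exact Commute.one_left w
  have heo := order_of_elem hE he he1
  have hcU : e * w * e⁻¹ * w⁻¹ ∈ U := mul_mem ((mem_normalizer_iff.1 (hUn (hEL he)) w).1 hw) (inv_mem hw)
  suffices h : e * w * e⁻¹ * w⁻¹ = 1 from mul_inv_eq_iff_eq_mul.1 (mul_inv_eq_one.1 h)
  by_cases hfP : ∀ y ∈ P, Commute e y → y = 1
  · exact c.faith_left hUL hU hUn _ hcU
      (wlemma c.pr.symm c.ps.symm c.rs.symm hUab hU c.hP heo (hUn (hEL he)) (c.nP (hEL he))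
        (hUL.trans c.nP) hfP w hw)
  · push Not at hfP
    obtain ⟨y, hy, hey, hy1⟩ := hfP
    exact c.swap.faith_left hUL hU hUn _ hcU
      (wlemma c.qr.symm c.qs.symm c.rs.symm hUab hU c.hQ heo (hUn (hEL he)) (c.nQ (hEL he))
        (hUL.trans c.nQ) (fun z hz hez => c.no_both heo hy hz hey hez hy1) w hw)

/-- Elements of `U` have no fixed points on `P`. -/
theorem TwoFitting.fpf_left (c : TwoFitting σ p q r s L P Q) {U : Subgroup G} (hUL : U ≤ L)
    (hU : IsPGroup r U) (hUab : ∀ a ∈ U, ∀ b ∈ U, Commute a b) (hUn : L ≤ normalizer (U : Set G))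
    {w : G} (hw : w ∈ U) (hw1 : w ≠ 1) : ∀ y ∈ P, Commute w y → y = 1 := by
  obtain ⟨E, hEL, hE, hE2⟩ := c.sqs
  obtain ⟨k, hk⟩ := exists_order hU hw hw1
  intro y hy hwy
  obtain ⟨W, hW⟩ : ∃ W, P ⊓ centralizer ({w} : Set G) = W := ⟨_, rfl⟩
  by_contra hy1
  have hyW : y ∈ W := hW ▸ ⟨hy, mem_centralizer_singleton_iff.2 hwy.eq.symm⟩
  have hWn : E ≤ normalizer (W : Set G) := by
    intro e he
    rw [← hW, mem_normalizer_iff_map_conj_eq, map_inf _ _ _ (MulAut.conj e).injective,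
      mem_normalizer_iff_map_conj_eq.1 (c.nP (hEL he))]
    refine congrArg _ (eq_of_le_of_card_ge ?_ (card_map_of_injective (MulAut.conj e).injective).ge)
    rintro _ ⟨z, hz, rfl⟩
    have hew := c.centralizes hUL hU hUab hUn hEL hE e he w hw
    refine mem_centralizer_singleton_iff.2 ?_
    show e * z * e⁻¹ * w = w * (e * z * e⁻¹)
    have hzw : z * w = w * z := mem_centralizer_singleton_iff.1 hz
    have he' : e⁻¹ * w = w * e⁻¹ := hew.inv_left.eq
    calc e * z * e⁻¹ * w = e * (z * (e⁻¹ * w)) := by group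
      _ = e * (z * w) * e⁻¹ := by rw [he']; group
      _ = (e * w) * z * e⁻¹ := by rw [hzw]; group
      _ = w * (e * z * e⁻¹) := by rw [hew.eq]; group
  have hWp : IsPGroup p W := c.hP.to_le (hW ▸ inf_le_left)
  obtain ⟨e, he, he1, v, hv, hv1, hev⟩ :=
    gen_ne_bot hE hE2 hWn (not_dvd_card c.ps.symm hWp) fun h => hy1 (mem_bot.1 (h ▸ hyW))
  have hvW : v ∈ P ⊓ centralizer ({w} : Set G) := hW.symm ▸ hv
  exact hv1 (c.no.eq_one c.ms c.mr c.mp c.rs.symm c.ps.symm c.pr.symm (order_of_elem hE he he1) hk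
    ((c.centralizes hUL hU hUab hUn hEL hE e he w hw).pow_right k) c.hP hvW.1 hev
    ((Commute.pow_left (mem_centralizer_singleton_iff.1 hvW.2).symm k)))

/-- No element of order `r` is conjugate to its product with `u`. -/
theorem TwoFitting.no_conj (c : TwoFitting σ p q r s L P Q) {u g x : G} (hu : orderOf u = r)
    (huL : u ∈ L) (hgL : g ∈ L) (hxL : x ∈ L) (hg : orderOf g = r) (hug : Commute u g)
    (hgu : g ∉ zpowers u) (hxu : Commute x u) (hx : x * g * x⁻¹ = g * u)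
    (hfP : ∀ y ∈ P, Commute u y → y = 1) (hfQ : ∀ y ∈ Q, Commute u y → y = 1) : False := by
  obtain ⟨y, hy, hy1, hgy⟩ := trick_fix c.pr.symm c.hP c.hP1 hu hg hug hgu (c.nP huL) (c.nP hgL)
    (c.nP hxL) hxu hx hfP
  obtain ⟨z, hz, hz1, hgz⟩ := trick_fix c.qr.symm c.hQ c.hQ1 hu hg hug hgu (c.nQ huL) (c.nQ hgL)
    (c.nQ hxL) hxu hx hfQ
  exact hz1 (c.symm.no_both hg hy hz hgy hgz hy1)

/-- The information on one core. -/
theorem TwoFitting.core_data (c : TwoFitting σ p q r s L P Q) (hR : pCoreOf r L ≠ ⊥) :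
    ∃ u g : G, u ∈ pCoreOf r L ∧ orderOf u = r ∧ g ∈ L ∧ orderOf g = r ∧ g ∉ zpowers u ∧
      Commute u g ∧ (∀ y ∈ pCoreOf r L, Commute g y) ∧ L ≤ normalizer (zpowers u : Set G) ∧
      omegaCenter (pCoreOf r L) r = zpowers u ∧
      (∀ E : Subgroup G, E ≤ L → IsElementaryAbelian s E → ∀ e ∈ E, Commute e u) ∧
      (∀ y ∈ P, Commute u y → y = 1) ∧ (∀ y ∈ Q, Commute u y → y = 1) := by
  have hRp := isPGroup_core (G := G) L r
  have hRL := core_le (G := G) L r
  obtain ⟨R, hRdef⟩ : ∃ R, pCoreOf r L = R := ⟨_, rfl⟩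
  rw [hRdef] at hR hRp hRL ⊢
  have hRn : L ≤ normalizer (R : Set G) := hRdef ▸ le_normalizer_core L r
  obtain ⟨U, hU⟩ : ∃ U, omegaCenter R r = U := ⟨_, rfl⟩
  have hUR : U ≤ R := fun w hw => (hU ▸ hw : w ∈ omegaCenter R r).1
  have hUab : ∀ a ∈ U, ∀ b ∈ U, Commute a b := fun a ha b hb =>
    (hU ▸ hb : b ∈ omegaCenter R r).2.1 a (hUR ha)
  have hUn : L ≤ normalizer (U : Set G) := hU ▸ hRn.trans (normalizer_le_omegaCenter R r)
  have hUp : IsPGroup r U := hRp.to_le hUR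
  obtain ⟨u, huU, hu1⟩ : ∃ u ∈ U, u ≠ 1 := by
    by_contra h
    push Not at h
    exact (hU ▸ omegaCenter_ne_bot R hRp hR : U ≠ ⊥) ((eq_bot_iff_forall _).2 h)
  have huo : orderOf u = r := orderOf_eq_prime (hU ▸ huU : u ∈ omegaCenter R r).2.2 hu1
  have hfix : ∀ w ∈ U, w ≠ 1 → (∀ y ∈ P, Commute w y → y = 1) ∧ ∀ y ∈ Q, Commute w y → y = 1 :=
    fun w hw hw1 => ⟨c.fpf_left (hUR.trans hRL) hUp hUab hUn hw hw1,
      c.swap.fpf_left (hUR.trans hRL) hUp hUab hUn hw hw1⟩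
  have hUu : U = zpowers u := by
    refine le_antisymm (fun w hw => ?_) (zpowers_le.2 huU)
    by_contra hwu
    have hw1 : w ≠ 1 := fun h => hwu (h ▸ one_mem _)
    obtain ⟨E, hE, hE2, -, -, hmem, hle⟩ := exists_pair huo
      (orderOf_eq_prime (hU ▸ hw : w ∈ omegaCenter R r).2.2 hw1) (hUab u huU w hw) hwu
    obtain ⟨e, he, he1, y, hy, hy1, hey⟩ := gen_ne_bot hE hE2
      ((hle _ huU hw).trans ((hUR.trans hRL).trans c.nP)) (not_dvd_card c.pr.symm c.hP) c.hP1
    exact hy1 ((hfix e (hle _ huU hw he) he1).1 y hy hey)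
  have hun : L ≤ normalizer (zpowers u : Set G) := hUu ▸ hUn
  obtain ⟨E, hEL, hE, hE2⟩ := c.sqr
  haveI := c.sol
  obtain ⟨T₀, hT₀⟩ := (IsPGroup.of_card (p := r) (n := 2)
    ((Nat.card_congr (subgroupOfEquivOfLe hEL).toEquiv).trans hE2)).exists_le_sylow
  obtain ⟨T, hT⟩ : ∃ T, (T₀ : Subgroup L).map L.subtype = T := ⟨_, rfl⟩
  have hTp : IsPGroup r T := hT ▸ T₀.isPGroup'.map _
  have hTL : T ≤ L := hT ▸ map_subtype_le _
  have hRT : R ≤ T := hRdef ▸ hT ▸ map_mono (CfsgLib.Fitting.pCore_le_sylow T₀)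
  have hET : E ≤ T := by
    have := map_mono (f := L.subtype) hT₀
    rwa [map_subgroupOf_eq_of_le hEL, hT] at this
  have hcen : ∀ x ∈ T, Commute x u := central_of_pgroup hTp huo (hRT (hUR huU)) (hTL.trans hun)
  have hg : ∃ g ∈ omegaCenter T r, g ∉ zpowers u := by
    by_contra h
    push Not at h
    have hex : ∃ g ∈ T, orderOf g = r ∧ g ∉ zpowers u := by
      by_contra h'
      push Not at h'
      have hle : E ≤ zpowers u := fun e he => by
        rcases eq_or_ne e 1 with rfl | he1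
        · exact one_mem _
        · exact h' e (hET he) (order_of_elem hE he he1)
      have := card_le_of_le hle
      rw [hE2, Nat.card_zpowers, huo] at this
      exact absurd this (not_le.2 (lt_self_pow₀ (Fact.out : r.Prime).one_lt one_lt_two))
    obtain ⟨g, hgT, hgo, hgu, x, hxT, hx⟩ := exists_conj_mul hTp huo
      ⟨hRT (hUR huU), hcen, by rw [← huo, pow_orderOf_eq_one]⟩ (fun a ha => h a ha) hex
    exact c.no_conj huo (hRL (hUR huU)) (hTL hgT) (hTL hxT) hgo (hcen g hgT).symm hgu (hcen x hxT) hx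
      (hfix u huU hu1).1 (hfix u huU hu1).2
  obtain ⟨g, hg, hgu⟩ := hg
  refine ⟨u, g, hUR huU, huo, hTL hg.1, orderOf_eq_prime hg.2.2 fun h => hgu (h ▸ one_mem _), hgu,
    (hcen g hg.1).symm, fun y hy => (hg.2.1 y (hRT hy)).symm, hun, hU.trans hUu, fun E' h1 h2 e he => ?_,
    (hfix u huU hu1).1, (hfix u huU hu1).2⟩
  exact c.centralizes (hUR.trans hRL) hUp hUab hUn h1 h2 e he u huU

/-- A core of order prime to `r` is not the only one. -/
theorem TwoFitting.core_ne (c : TwoFitting σ p q r s L P Q) : pCoreOf r L ≠ ⊥ := by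
  intro hR
  haveI := c.sol
  have hS : pCoreOf s L ≠ ⊥ := by
    intro hS
    obtain ⟨E, hEL, hE, hE2⟩ := c.sqr
    obtain ⟨e, he, he1⟩ : ∃ e ∈ E, e ≠ 1 := by
      by_contra h
      push Not at h
      rw [(eq_bot_iff_forall E).2 h, card_bot] at hE2
      exact absurd hE2.symm (Nat.pow_eq_one.not.2 (by simp [(Fact.out : r.Prime).ne_one]))
    refine he1 (mem_bot.1 (hR ▸ mem_core c.sol (hEL he) (k := 1) (by rw [pow_one]; exact hE.2 e he)
      fun t ht y hy => ?_))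
    have hyt : y = 1 := by
      by_contra hy1
      haveI := Fact.mk ht
      obtain ⟨k, hk⟩ := exists_order (isPGroup_core L t) hy hy1
      rcases c.supp t ht (hk ▸ Subgroup.orderOf_dvd_natCard L (pow_mem (core_le L t hy) k)) with rfl | rfl
      · exact hy1 (mem_bot.1 (hR ▸ hy))
      · exact hy1 (mem_bot.1 (hS ▸ hy))
    rw [hyt]
    exact Commute.one_right e
  obtain ⟨z, h, hzS, hzo, hhL, hho, hhz, -, hhc, -, homega, -, -, -⟩ := c.symm.core_data hS
  refine hhz (homega ▸ ?_)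
  have hmem : h ∈ pCoreOf s L := by
    refine mem_core c.sol hhL (k := 1) (by rw [pow_one, ← hho, pow_orderOf_eq_one]) fun t ht y hy => ?_
    rcases eq_or_ne y 1 with rfl | hy1
    · exact Commute.one_right h
    haveI := Fact.mk ht
    obtain ⟨k, hk⟩ := exists_order (isPGroup_core L t) hy hy1
    rcases c.supp t ht (hk ▸ Subgroup.orderOf_dvd_natCard L (pow_mem (core_le L t hy) k)) with rfl | rfl
    · exact absurd (mem_bot.1 (hR ▸ hy)) hy1
    · exact hhc y hy
  exact ⟨hmem, fun y hy => (hhc y hy).symm, by rw [← hho, pow_orderOf_eq_one]⟩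

/-- No configuration with two odd primes in this order exists. -/
theorem TwoFitting.false_of_odd (c : TwoFitting σ p q r s L P Q) (hr : r ≠ 2) : False := by
  have hR := c.core_ne
  have hS := c.symm.core_ne
  obtain ⟨u, g, huR, huo, hgL, hgo, hgu, hug, hgc, -, homR, hEu, hfP, hfQ⟩ := c.core_data hR
  obtain ⟨z, h, hzS, hzo, hhL, hho, hhz, hzh, hhc, -, homS, -, hzP, hzQ⟩ := c.symm.core_data hS
  obtain ⟨E, hE, hE2, hzE, hhE, -, hle⟩ := exists_pair hzo hho hzh hhz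
  have hhu : Commute h u := hEu E (hle _ (core_le L s hzS) hhL) hE h hhE
  have hRp := isPGroup_core (G := G) L r
  have huniq : ∀ x ∈ pCoreOf r L, orderOf x = r → x ∈ zpowers u := by
    by_contra hcon
    push Not at hcon
    obtain ⟨x, hxR, hxo, hxu⟩ := hcon
    obtain ⟨a, haR, hao, hau, y, hyR, hy⟩ := exists_conj_mul hRp huo (homR.symm ▸ mem_zpowers u)
      homR.le ⟨x, hxR, hxo, hxu⟩
    have hcen : u ∈ omegaCenter (pCoreOf r L) r := homR.symm ▸ mem_zpowers u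
    exact c.no_conj huo (core_le L r huR) (core_le L r haR) (core_le L r hyR) hao
      (hcen.2.1 a haR).symm hau (hcen.2.1 y hyR) hy hfP hfQ
  have hcyc : IsCyclic (pCoreOf r L) := by
    refine (CfsgLib.UniqueInvol.cyclic_or_quaternion hRp fun x y hx hy => ?_).resolve_right
      fun h => hr h.1
    rw [← Subgroup.orderOf_coe] at hx hy
    have : zpowers (x : G) = zpowers u := eq_of_le_of_card_ge (zpowers_le.2 (huniq _ x.2 hx))
      (by rw [Nat.card_zpowers, Nat.card_zpowers, huo, hx])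
    obtain ⟨i, hi⟩ := mem_zpowers_iff.1 (this.symm ▸ huniq _ y.2 hy)
    exact mem_zpowers_iff.2 ⟨i, Subtype.ext (by simpa using hi)⟩
  have hab : ∀ a ∈ pCoreOf r L, ∀ b ∈ pCoreOf r L, Commute a b := fun a ha b hb => by
    letI := hcyc.commGroup
    exact congrArg Subtype.val (mul_comm (⟨a, ha⟩ : pCoreOf r L) ⟨b, hb⟩)
  have hco : (orderOf h).Coprime (Nat.card (pCoreOf r L)) := by
    rw [hho]
    exact (Fact.out : s.Prime).coprime_iff_not_dvd.2 (not_dvd_card c.rs.symm hRp)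
  have hhR : ∀ y ∈ pCoreOf r L, Commute h y := by
    intro y hy
    have hn := le_normalizer_core L r hhL
    suffices hc : h * y * h⁻¹ * y⁻¹ = 1 from mul_inv_eq_iff_eq_mul.1 (mul_inv_eq_one.1 hc)
    by_contra hc
    obtain ⟨k, hk⟩ := exists_order hRp (mul_mem ((mem_normalizer_iff.1 hn y).1 hy) (inv_mem hy)) hc
    have hcy : Commute y (h * y * h⁻¹) := hab y hy _ ((mem_normalizer_iff.1 hn y).1 hy)
    have hpow : (h * y * h⁻¹ * y⁻¹) ^ k = h * y ^ k * h⁻¹ * (y ^ k)⁻¹ := by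
      rw [(hcy.symm.inv_right).mul_pow, conj_pow, inv_pow]
    have hzu := huniq _ (pow_mem (mul_mem ((mem_normalizer_iff.1 hn y).1 hy) (inv_mem hy)) k) hk
    rw [hpow] at hk hzu
    obtain ⟨i, hi⟩ := mem_zpowers_iff.1 hzu
    have h1 := comm_trick hab hn hco (pow_mem hy k) (hi ▸ hhu.zpow_right i)
    exact ne_one_of_order hk h1
  haveI := c.sol
  refine hhz (homS ▸ ⟨?_, fun y hy => (hhc y hy).symm, by rw [← hho, pow_orderOf_eq_one]⟩)
  refine mem_core c.sol hhL (k := 1) (by rw [pow_one, ← hho, pow_orderOf_eq_one]) fun t ht y hy => ?_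
  rcases eq_or_ne y 1 with rfl | hy1
  · exact Commute.one_right h
  haveI := Fact.mk ht
  obtain ⟨k, hk⟩ := exists_order (isPGroup_core L t) hy hy1
  rcases c.supp t ht (hk ▸ Subgroup.orderOf_dvd_natCard L (pow_mem (core_le L t hy) k)) with rfl | rfl
  · exact hhR y hy
  · exact hhc y hy

/-- The case of two primes in the Fitting subgroup is impossible. -/
theorem TwoFitting.false (c : TwoFitting σ p q r s L P Q) : False := by
  by_cases hr : r = 2
  · exact c.symm.false_of_odd fun hs => c.rs (hr.trans hs.symm)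
  · exact c.false_of_odd hr

end CfsgLib.FourPrimes
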