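import Cfsg.Agent.FourPrimes.Basic

/-!
Frobenius configurations with a cyclic complement of arbitrary order, adapted from the prime case.
-/

set_option autoImplicit false
set_option linter.style.haveILetI false
set_option linter.unusedSectionVars false
set_option maxHeartbeats 800000

namespace CfsgLib.FourPrimes

open Subgroup Cfsg CfsgLib.OddLocal CfsgLib.OddLocal.FixedLine
open scoped commutatorElement TensorProduct

universe u

variable {X : Type u} [Group X] [Finite X]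

/-- A group normalized by a semiregular cyclic group is generated by fixed points. -/
theorem le_of_frobenius_cyclic {t l : ℕ} [Fact t.Prime] (hl0 : l ≠ 0)
    {N U Y : Subgroup X} (hN : IsPGroup t N) {h : X} (hh : orderOf h = l) (hlN : l.Coprime (Nat.card N))
    (hUN : U ≤ normalizer (N : Set X)) (hUc : (Nat.card U).Coprime (Nat.card N))
    (hhU : h ∈ normalizer (U : Set X)) (hhN : h ∈ normalizer (N : Set X))
    (hnc : ∀ i : ℕ, ¬ l ∣ i → ∀ w ∈ U, Commute w (h ^ i) → w = 1)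
    (hYU : N ⊓ centralizer (U : Set X) ≤ Y)
    (hYh : ∀ v ∈ U, N ⊓ centralizer ({v * h * v⁻¹} : Set X) ≤ Y) : N ≤ Y := by
  classical
  set Γ := normalizer (N : Set X)
  set Φ := frattini N with hΦ
  haveI : Φ.Characteristic := frattini_characteristic
  haveI : Group.IsNilpotent N := hN.isNilpotent
  obtain ⟨hcm, -⟩ := CfsgLib.PGroupBasic.commutator_pow_le_frattini hN
  letI : CommGroup (N ⧸ Φ) := { (inferInstance : Group (N ⧸ Φ)) with
    mul_comm := (Normal.quotient_commutative_iff_commutator_le.2 hcm).is_comm.comm }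
  let f : N →* N ⧸ Φ := QuotientGroup.mk' Φ
  let τ : Γ → (N ⧸ Φ →* N ⧸ Φ) := fun g =>
    QuotientGroup.map Φ Φ (normalizerMonoidHom N g).toMonoidHom
      (characteristic_iff_le_comap.1 inferInstance _)
  have hτf : ∀ (g : Γ) (y : N), τ g (f y) = f (normalizerMonoidHom N g y) := fun g y => rfl
  have hτmul : ∀ (a b : Γ) (x : N ⧸ Φ), τ (a * b) x = τ a (τ b x) := by
    intro a b x
    obtain ⟨y, rfl⟩ := QuotientGroup.mk'_surjective Φ x
    show τ (a * b) (f y) = τ a (τ b (f y))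
    rw [hτf, hτf, hτf, map_mul]
    rfl
  set S := (Y.subgroupOf N).map f with hS
  set ΦG := Φ.map N.subtype
  have hlift : ∀ A : Subgroup X, A ≤ Γ → (Nat.card A).Coprime (Nat.card N) → N ⊓ centralizer (A : Set X) ≤ Y →
      ∀ x, (∀ g : Γ, (g : X) ∈ A → τ g x = x) → x ∈ S := by
    intro A hA hcop hAY x hx
    obtain ⟨y, rfl⟩ := QuotientGroup.mk'_surjective Φ x
    have hfix : ∀ a ∈ A, (y : X)⁻¹ * (a * y * a⁻¹) ∈ ΦG := by
      intro a ha
      refine ⟨y⁻¹ * normalizerMonoidHom N ⟨a, hA ha⟩ y, ?_, rfl⟩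
      have h2 : f (y⁻¹ * normalizerMonoidHom N ⟨a, hA ha⟩ y) = 1 := by
        rw [map_mul, map_inv, ← hτf]
        exact inv_mul_eq_one.2 (hx ⟨a, hA ha⟩ ha).symm
      exact (QuotientGroup.eq_one_iff _).1 h2
    obtain ⟨c, hc, hcy⟩ := CfsgLib.CoprimeAct.exists_centralizing_mem_coset hA hcop
      (map_subtype_le Φ) (hA.trans (UTool.normalizer_le_normalizer_map N Φ inferInstance)) (Or.inr (by
        haveI := (hN.to_le (map_subtype_le Φ)).isNilpotent
        infer_instance)) y.2 hfix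
    refine ⟨⟨c, hc.1⟩, hAY hc, ?_⟩
    obtain ⟨z, hz, hzy⟩ := hcy
    have e : (⟨c, hc.1⟩ : N) = y * z := Subtype.ext (by
      show c = (y : X) * (z : X)
      rw [show (z : X) = (y : X)⁻¹ * c from hzy, mul_inv_cancel_left])
    rw [e, map_mul, show f z = 1 from (QuotientGroup.eq_one_iff z).2 hz, mul_one]
  suffices hall : ∀ y : N, f y ∈ S by
    have htop : Y.subgroupOf N = ⊤ := frattini_nongenerating (eq_top_iff.2 fun y _ => by
      obtain ⟨x, hx, hxy⟩ := hall y
      have hz : x⁻¹ * y ∈ Φ := (QuotientGroup.eq_one_iff _).1 (show f (x⁻¹ * y) = 1 by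
        rw [map_mul, map_inv, hxy, inv_mul_cancel])
      have := mul_mem_sup hx hz
      rwa [mul_inv_cancel_left] at this)
    exact subgroupOf_eq_top.1 htop
  intro y
  set H : Γ := ⟨h, hhN⟩
  set Us : Subgroup Γ := U.subgroupOf Γ
  haveI : Fintype Us := Fintype.ofFinite Us
  have hcUs : Fintype.card Us = Nat.card U := by
    rw [← Nat.card_eq_fintype_card]
    exact Nat.card_congr (subgroupOfEquivOfLe hUN).toEquiv
  have hHU : ∀ v : Γ, v ∈ Us → ∀ i : ℕ, H ^ i * v * (H ^ i)⁻¹ ∈ Us := fun v hv i => by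
    have h1 := (mem_normalizer_iff.1 (pow_mem hhU i) (v : X)).1 hv
    simpa [Us, mem_subgroupOf] using h1
  let F : ℕ → Us → Us := fun i v =>
    ⟨(v : Γ) * (H ^ i * (v : Γ)⁻¹ * (H ^ i)⁻¹), mul_mem v.2 (hHU _ (inv_mem v.2) i)⟩
  have hcopl : ∀ g : X, orderOf g = l → (Nat.card (zpowers g)).Coprime (Nat.card N) := fun g hg => by
    rw [Nat.card_zpowers, hg]; exact hlN
  have hinner : ∀ v : Us, ∏ i ∈ Finset.range l, τ ((v : Γ) * H ^ i * (v : Γ)⁻¹) (f y) ∈ S := by
    intro v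
    set g : Γ := (v : Γ) * H * (v : Γ)⁻¹ with hg
    have hgX : (g : X) = ((v : Γ) : X) * h * ((v : Γ) : X)⁻¹ := rfl
    have hgo : orderOf (g : X) = l := by
      rw [← hh, hgX]
      exact (MulAut.conj ((v : Γ) : X)).orderOf_eq h
    refine hlift (zpowers (g : X)) (zpowers_le.2 g.2) (hcopl _ hgo)
      ((inf_le_inf_left _ (centralizer_zpowers_le _)).trans (hgX ▸ hYh _ v.2)) _ fun g' hg' => ?_
    have hτg : ∀ j : ℕ, τ (g ^ j) (∏ i ∈ Finset.range l, τ ((v : Γ) * H ^ i * (v : Γ)⁻¹) (f y)) =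
        ∏ i ∈ Finset.range l, τ ((v : Γ) * H ^ i * (v : Γ)⁻¹) (f y) := by
      have hone : τ g (∏ i ∈ Finset.range l, τ ((v : Γ) * H ^ i * (v : Γ)⁻¹) (f y)) =
          ∏ i ∈ Finset.range l, τ ((v : Γ) * H ^ i * (v : Γ)⁻¹) (f y) := by
        rw [map_prod]
        have hpow : ∀ i : ℕ, (v : Γ) * H ^ i * (v : Γ)⁻¹ = g ^ i := fun i => by rw [hg, conj_pow]
        simp only [hpow, ← hτmul, ← pow_succ']
        have hgl : g ^ l = 1 := Subtype.ext (by
          rw [SubmonoidClass.coe_pow, ← hgo, pow_orderOf_eq_one]; rfl)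
        obtain ⟨l', rfl⟩ : ∃ l', l = l' + 1 := ⟨l - 1, (Nat.succ_pred_eq_of_pos (Nat.pos_of_ne_zero hl0)).symm⟩
        rw [Finset.prod_range_succ (fun i => τ (g ^ (i + 1)) (f y)), Finset.prod_range_succ'
          (fun i => τ (g ^ i) (f y)), hgl, pow_zero]
      intro j
      induction j with
      | zero =>
        obtain ⟨z, hz⟩ := QuotientGroup.mk'_surjective Φ (∏ i ∈ Finset.range l, τ ((v : Γ) * H ^ i * (v : Γ)⁻¹) (f y))
        rw [← hz, pow_zero]
        show τ 1 (f z) = f z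
        rw [hτf, map_one]
        rfl
      | succ j ih => rw [pow_succ', hτmul, ih, hone]
    obtain ⟨j, hj⟩ := (mem_zpowers_iff_mem_range_orderOf.1 hg' |> Finset.mem_image.1).imp fun _ h => h.2
    have e : g' = g ^ j := Subtype.ext (by rw [SubmonoidClass.coe_pow]; exact hj.symm)
    rw [e, hτg]
  have houter : ∀ i : ℕ, ¬ l ∣ i → ∏ v : Us, τ ((v : Γ) * H ^ i * (v : Γ)⁻¹) (f y) ∈ S := by
    intro i hi
    have hFi : Function.Injective (F i) := by
      intro v w hvw
      have h1 : (v : Γ) * (H ^ i * (v : Γ)⁻¹ * (H ^ i)⁻¹) = (w : Γ) * (H ^ i * (w : Γ)⁻¹ * (H ^ i)⁻¹) :=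
        congrArg Subtype.val hvw
      have h2 : Commute ((w : Γ)⁻¹ * (v : Γ)) (H ^ i) := by
        have h3 := congrArg (fun z => (w : Γ)⁻¹ * (z * (H ^ i) * (v : Γ))) h1
        simp only [mul_assoc, inv_mul_cancel, mul_one, inv_mul_cancel_left] at h3
        show (w : Γ)⁻¹ * (v : Γ) * H ^ i = H ^ i * ((w : Γ)⁻¹ * (v : Γ))
        simpa [mul_assoc] using h3
      have h4 : Commute ((((w : Γ)⁻¹ * (v : Γ) : Γ)) : X) (h ^ i) := by
        simpa [Commute, SemiconjBy] using congrArg Subtype.val h2.eq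
      have h5 := hnc i hi _ (show (w : Γ)⁻¹ * (v : Γ) ∈ Us from mul_mem (inv_mem w.2) v.2) h4
      exact (Subtype.ext (inv_mul_eq_one.1 (Subtype.ext h5 : (w : Γ)⁻¹ * (v : Γ) = 1))).symm
    have hbij : Function.Bijective (F i) := Finite.injective_iff_bijective.1 hFi
    have e : ∏ v : Us, τ ((v : Γ) * H ^ i * (v : Γ)⁻¹) (f y) = ∏ v : Us, τ ((v : Γ) * H ^ i) (f y) := by
      refine Fintype.prod_bijective (F i) hbij _ _ fun v => ?_
      congr 2
      show (v : Γ) * H ^ i * (v : Γ)⁻¹ = (v : Γ) * (H ^ i * (v : Γ)⁻¹ * (H ^ i)⁻¹) * H ^ i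
      group
    rw [e]
    refine hlift U hUN hUc hYU _ fun g hg => ?_
    rw [map_prod]
    refine Fintype.prod_equiv (Equiv.mulLeft (⟨g, hg⟩ : Us)) _ _ fun v => ?_
    rw [← hτmul, ← mul_assoc]
    rfl
  obtain ⟨l', rfl⟩ : ∃ l', l = l' + 1 := ⟨l - 1, (Nat.succ_pred_eq_of_pos (Nat.pos_of_ne_zero hl0)).symm⟩
  have hswap : ∏ v : Us, ∏ i ∈ Finset.range (l' + 1), τ ((v : Γ) * H ^ i * (v : Γ)⁻¹) (f y) ∈ S :=
    prod_mem fun v _ => hinner v
  rw [Finset.prod_comm, Finset.prod_range_succ', mul_comm] at hswap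
  have hrest : ∏ i ∈ Finset.range l', ∏ v : Us, τ ((v : Γ) * H ^ (i + 1) * (v : Γ)⁻¹) (f y) ∈ S := by
    refine prod_mem fun i hi => houter (i + 1) fun hd => ?_
    have := Nat.le_of_dvd (Nat.succ_pos i) hd
    have := Finset.mem_range.1 hi
    omega
  have hq : f y ^ Nat.card U ∈ S := by
    have h0 := (S.mul_mem_cancel_right hrest).1 hswap
    have hτ1 : τ 1 (f y) = f y := by rw [hτf, map_one]; rfl
    simpa [pow_zero, hτ1, Finset.prod_const, hcUs] using h0
  obtain ⟨m, hm⟩ := exists_pow_eq_self_of_coprime (x := f y) (n := Nat.card U)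
    (hUc.coprime_dvd_right ((orderOf_map_dvd f y).trans (orderOf_dvd_natCard y)))
  exact hm ▸ pow_mem hq m

/-- `U` centralizes `N` if the product of commuting elements of two prime orders acts semiregularly on
`U` and has no fixed points on `N`. -/
theorem frob_mul {t s r : ℕ} [Fact t.Prime] [Fact s.Prime] [Fact r.Prime] (hst : s ≠ t) (hrt : r ≠ t)
    (hsr : s ≠ r) {N U : Subgroup X} (hN : IsPGroup t N) {a b : X} (ha : orderOf a = s)
    (hb : orderOf b = r) (hab : Commute a b) (hUN : U ≤ normalizer (N : Set X))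
    (hUc : (Nat.card U).Coprime (Nat.card N)) (haU : a ∈ normalizer (U : Set X))
    (hbU : b ∈ normalizer (U : Set X)) (haN : a ∈ normalizer (N : Set X))
    (hbN : b ∈ normalizer (N : Set X)) (haf : ∀ w ∈ U, Commute a w → w = 1)
    (hbf : ∀ w ∈ U, Commute b w → w = 1)
    (hfix : ∀ y ∈ N, Commute a y → Commute b y → y = 1) :
    ∀ w ∈ U, ∀ y ∈ N, Commute w y := by
  have hsp : s.Prime := Fact.out
  have hrp : r.Prime := Fact.out
  have hsr' : s.Coprime r := (Nat.coprime_primes hsp hrp).2 hsr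
  have ho : orderOf (a * b) = s * r := by
    rw [hab.orderOf_mul_eq_mul_orderOf_of_coprime (by rw [ha, hb]; exact hsr'), ha, hb]
  have hpa : (a * b) ^ r = a ^ r := by
    rw [hab.mul_pow, ← hb, pow_orderOf_eq_one, mul_one]
  have hpb : (a * b) ^ s = b ^ s := by
    rw [hab.mul_pow, ← ha, pow_orderOf_eq_one, one_mul]
  have hcN : (s * r).Coprime (Nat.card N) := by
    obtain ⟨k, hk⟩ := IsPGroup.iff_card.1 hN
    rw [hk]
    exact Nat.Coprime.mul_left (((Nat.coprime_primes hsp Fact.out).2 hst).pow_right k)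
      (((Nat.coprime_primes hrp Fact.out).2 hrt).pow_right k)
  obtain ⟨ma, hma⟩ := exists_pow_eq_self_of_coprime (x := a) (n := r) (by rw [ha]; exact hsr'.symm)
  obtain ⟨mb, hmb⟩ := exists_pow_eq_self_of_coprime (x := b) (n := s) (by rw [hb]; exact hsr')
  have hboth : ∀ y : X, Commute (a * b) y → Commute a y ∧ Commute b y := fun y hy =>
    ⟨hma ▸ (hpa ▸ hy.pow_left r).pow_left ma, hmb ▸ (hpb ▸ hy.pow_left s).pow_left mb⟩
  have hnc : ∀ i : ℕ, ¬ s * r ∣ i → ∀ w ∈ U, Commute w ((a * b) ^ i) → w = 1 := by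
    intro i hi w hw hc
    by_cases hsi : s ∣ i
    · have hri : ¬ r ∣ i := fun h => hi (hsr'.mul_dvd_of_dvd_of_dvd hsi h)
      obtain ⟨m, hm⟩ := exists_pow_eq_self_of_coprime (x := b) (n := i)
        (by rw [hb]; exact (hrp.coprime_iff_not_dvd.2 hri).symm)
      rw [hab.mul_pow, orderOf_dvd_iff_pow_eq_one.1 (ha.symm ▸ hsi), one_mul] at hc
      exact hbf w hw (hm ▸ (hc.symm.pow_left m))
    · have h1 : Commute (a ^ (i * r)) w := by
        have h2 := hc.symm.pow_left r
        rwa [← pow_mul, mul_comm i r, pow_mul, hpa, ← pow_mul, mul_comm r i] at h2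
      obtain ⟨m, hm⟩ := exists_pow_eq_self_of_coprime (x := a) (n := i * r)
        (by rw [ha]; exact Nat.Coprime.mul_left ((hsp.coprime_iff_not_dvd.2 hsi).symm) hsr'.symm)
      exact haf w hw (hm ▸ h1.pow_left m)
  have hle : N ≤ N ⊓ centralizer (U : Set X) := by
    refine le_of_frobenius_cyclic (Nat.mul_ne_zero hsp.ne_zero hrp.ne_zero) hN ho hcN hUN hUc
      (mul_mem haU hbU) (mul_mem haN hbN) hnc le_rfl fun v hv => ?_
    intro y hy
    have h1 : v⁻¹ * y * v ∈ N := by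
      have := (mem_normalizer_iff.1 (inv_mem (hUN hv)) y).1 hy.1
      simpa using this
    have h2 : Commute (v * (a * b) * v⁻¹) y := (mem_centralizer_singleton_iff.1 hy.2).symm
    have h3 : Commute (a * b) (v⁻¹ * y * v) := by
      have h4 := h2.map (MulAut.conj v⁻¹).toMonoidHom
      simpa [mul_assoc] using h4
    have h5 := hfix _ h1 (hboth _ h3).1 (hboth _ h3).2
    have : y = 1 := by
      calc y = v * (v⁻¹ * y * v) * v⁻¹ := by group
        _ = 1 := by rw [h5]; group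
    rw [this]
    exact one_mem _
  exact fun w hw y hy => mem_centralizer_iff.1 (hle hy).2 w hw

end CfsgLib.FourPrimes
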