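import Cfsg.Agent.FourPrimes.CaseTwo
import Cfsg.Agent.FourPrimes.FrobCyclic
import Cfsg.Agent.InvChar.UniqueInvolution
import Cfsg.Agent.Solvable.PGroupRank
import Cfsg.Agent.Solvable.Hall

/-!
The case of a `{q, r, s}`-group `K` acting faithfully on `P` with nontrivial `q`- and `r`-core.
-/

set_option autoImplicit false
set_option linter.style.haveILetI false
set_option linter.unusedSectionVars false
set_option maxHeartbeats 400000

namespace CfsgLib.FourPrimes

open Subgroup Cfsg CfsgLib.Lucido Pointwise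

universe u

variable {G : Type u} [Group G] [Finite G]

theorem centralizes_unique {r : ℕ} [Fact r.Prime] {R : Subgroup G} (hR : IsPGroup r R)
    (hab : ∀ a ∈ R, ∀ b ∈ R, Commute a b) {u : G} (hun : ∀ x ∈ R, orderOf x = r → x ∈ zpowers u)
    {h : G} (hn : h ∈ normalizer (R : Set G)) (hco : (orderOf h).Coprime (Nat.card R))
    (hhu : Commute h u) : ∀ y ∈ R, Commute h y := by
  intro y hy
  suffices hc : h * y * h⁻¹ * y⁻¹ = 1 from mul_inv_eq_iff_eq_mul.1 (mul_inv_eq_one.1 hc)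
  by_contra hc
  obtain ⟨k, hk⟩ := exists_order hR (mul_mem ((mem_normalizer_iff.1 hn y).1 hy) (inv_mem hy)) hc
  have hcy : Commute y (h * y * h⁻¹) := hab y hy _ ((mem_normalizer_iff.1 hn y).1 hy)
  have hpow : (h * y * h⁻¹ * y⁻¹) ^ k = h * y ^ k * h⁻¹ * (y ^ k)⁻¹ := by
    rw [(hcy.symm.inv_right).mul_pow, conj_pow, inv_pow]
  have hzu := hun _ (pow_mem (mul_mem ((mem_normalizer_iff.1 hn y).1 hy) (inv_mem hy)) k) hk
  rw [hpow] at hk hzu
  obtain ⟨i, hi⟩ := mem_zpowers_iff.1 hzu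
  exact ne_one_of_order hk (comm_trick hab hn hco (pow_mem hy k) (hi ▸ hhu.zpow_right i))

theorem normalizer_le_normalizer_core (L : Subgroup G) (t : ℕ) :
    normalizer (L : Set G) ≤ normalizer (pCoreOf t L : Set G) := by
  intro x hx
  rw [mem_normalizer_iff_map_conj_eq]
  refine eq_of_le_of_card_ge ?_ (card_map_of_injective (MulAut.conj x).injective).ge
  have hmap : L.map (MulAut.conj x).toMonoidHom = L := mem_normalizer_iff_map_conj_eq.1 hx
  refine le_core ((map_mono (core_le L t)).trans hmap.le) ((isPGroup_core L t).map _) fun y hy => ?_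
  rw [mem_normalizer_iff_map_conj_eq]
  refine eq_of_le_of_card_ge ?_ (card_map_of_injective (MulAut.conj y).injective).ge
  rintro _ ⟨_, ⟨n, hn, rfl⟩, rfl⟩
  have hy' : x⁻¹ * y * x ∈ L := by
    have := (mem_normalizer_iff.1 (inv_mem hx) y).1 hy
    simpa using this
  refine ⟨x⁻¹ * y * x * n * (x⁻¹ * y * x)⁻¹,
    (mem_normalizer_iff.1 (le_normalizer_core L t hy') n).1 hn, ?_⟩
  show x * (x⁻¹ * y * x * n * (x⁻¹ * y * x)⁻¹) * x⁻¹ = y * (x * n * x⁻¹) * y⁻¹
  group

/-- Hall subgroups of solvable subgroups contain squares of their primes. -/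
theorem exists_hall {L : Subgroup G} (hL : Group.IsSolvable L) (S : ℕ → Prop) :
    ∃ H : Subgroup G, H ≤ L ∧ Group.IsSolvable H ∧
      (∀ t : ℕ, t.Prime → t ∣ Nat.card H → S t) ∧
      ∀ t : ℕ, t.Prime → S t → HasSq L t → HasSq H t := by
  haveI := hL
  obtain ⟨H, hH1, -, hH3⟩ := CfsgLib.Hall.hall_pi (G := L) S
  refine ⟨H.map L.subtype, map_subtype_le _,
    Group.isSolvable_of_surjective (L.subtype.subgroupMap_surjective H), fun t ht hd => hH1 t ht ?_,
    fun t ht hS hsq => ?_⟩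
  · rwa [card_map_of_injective L.subtype_injective] at hd
  obtain ⟨E, hEL, hE, hE2⟩ := hsq
  have hc : Nat.card (E.subgroupOf L) = t ^ 2 := (Nat.card_congr (subgroupOfEquivOfLe hEL).toEquiv).trans hE2
  obtain ⟨g, hg⟩ := hH3 (E.subgroupOf L) fun l hl hd => by
    rw [hc] at hd
    rwa [(Nat.prime_dvd_prime_iff_eq hl ht).1 (hl.dvd_of_dvd_pow hd)]
  obtain ⟨E', hE'⟩ : ∃ E', (MulAut.conj g • E.subgroupOf L).map L.subtype = E' := ⟨_, rfl⟩
  have heq : E' = E.map (MulAut.conj (g : G)).toMonoidHom := by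
    rw [← hE']
    ext x
    constructor
    · rintro ⟨_, ⟨y, hy, rfl⟩, rfl⟩
      exact ⟨y, mem_subgroupOf.1 hy, rfl⟩
    · rintro ⟨y, hy, rfl⟩
      exact ⟨MulAut.conj g ⟨y, hEL hy⟩, ⟨⟨y, hEL hy⟩, mem_subgroupOf.2 hy, rfl⟩, rfl⟩
  subst heq
  refine ⟨_, hE' ▸ map_mono hg, ⟨⟨⟨fun a b => Subtype.ext ?_⟩⟩, ?_⟩, ?_⟩
  · obtain ⟨a', ha, ha'⟩ := a.2
    obtain ⟨b', hb, hb'⟩ := b.2
    haveI := hE.1
    show (a : G) * b = b * a
    rw [← ha', ← hb', ← map_mul, ← map_mul,
      show a' * b' = b' * a' from congrArg Subtype.val (mul_comm' (⟨a', ha⟩ : E) ⟨b', hb⟩)]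
  · intro a ha
    obtain ⟨a', ha', rfl⟩ := ha
    rw [← map_pow, hE.2 a' ha', map_one]
  · rw [card_map_of_injective (MulAut.conj (g : G)).injective, hE2]

/-- The configuration of the case. -/
structure Layer (σ : Set ℕ) (p q r s : ℕ) (K P : Subgroup G) : Prop where
  no : NoTriple G σ
  mp : p ∈ σ
  mq : q ∈ σ
  mr : r ∈ σ
  ms : s ∈ σ
  pq : p ≠ q
  pr : p ≠ r
  ps : p ≠ s
  qr : q ≠ r
  qs : q ≠ s
  rs : r ≠ s
  hP : IsPGroup p P
  hP1 : P ≠ ⊥
  nP : K ≤ normalizer (P : Set G)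
  faith : ∀ x ∈ K, (∀ y ∈ P, Commute x y) → x = 1
  sol : Group.IsSolvable K
  supp : ∀ t : ℕ, t.Prime → t ∣ Nat.card K → t = q ∨ t = r ∨ t = s
  sqq : HasSq K q
  sqr : HasSq K r
  sqs : HasSq K s
  hQ1 : pCoreOf q K ≠ ⊥
  hR1 : pCoreOf r K ≠ ⊥
  hS : pCoreOf s K = ⊥

theorem Layer.symm {σ : Set ℕ} {p q r s : ℕ} {K P : Subgroup G}
    (c : Layer σ p q r s K P) : Layer σ p r q s K P :=
  ⟨c.no, c.mp, c.mr, c.mq, c.ms, c.pr, c.pq, c.ps, c.qr.symm, c.rs, c.qs, c.hP, c.hP1, c.nP, c.faith,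
    c.sol, fun t ht hd => or_left_comm.1 (c.supp t ht hd), c.sqr, c.sqq, c.sqs, c.hR1, c.hQ1, c.hS⟩

variable {σ : Set ℕ} {p q r s : ℕ} [Fact p.Prime] [Fact q.Prime] [Fact r.Prime] [Fact s.Prime]
  {K P : Subgroup G}

theorem Layer.comm (c : Layer σ p q r s K P) :
    ∀ x ∈ pCoreOf q K, ∀ y ∈ pCoreOf r K, Commute x y := by
  intro x hx y hy
  have h1 : x * y * x⁻¹ * y⁻¹ ∈ pCoreOf r K :=
    mul_mem ((mem_normalizer_iff.1 (le_normalizer_core K r (core_le K q hx)) y).1 hy) (inv_mem hy)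
  have h2 : x * y * x⁻¹ * y⁻¹ ∈ pCoreOf q K := by
    rw [show x * y * x⁻¹ * y⁻¹ = x * (y * x⁻¹ * y⁻¹) by group]
    exact mul_mem hx ((mem_normalizer_iff.1 (le_normalizer_core K q (core_le K r hy)) _).1 (inv_mem hx))
  have h3 : x * y * x⁻¹ * y⁻¹ = 1 := mem_bot.1
    ((inf_eq_bot_of_coprime (coprime_card c.qr (isPGroup_core K q) (isPGroup_core K r))) ▸ mem_inf.2 ⟨h2, h1⟩)
  exact mul_inv_eq_iff_eq_mul.1 (mul_inv_eq_one.1 h3)

/-- One of the two centres has rank one. -/
theorem Layer.rank_one (c : Layer σ p q r s K P) {u v : G} (hu : u ∈ omegaCenter (pCoreOf q K) q)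
    (hu1 : u ≠ 1) (hv : v ∈ omegaCenter (pCoreOf r K) r) (hv1 : v ≠ 1) :
    omegaCenter (pCoreOf q K) q ≤ zpowers u ∨ omegaCenter (pCoreOf r K) r ≤ zpowers v := by
  by_contra h
  push Not at h
  obtain ⟨u', hu', hu'u⟩ := SetLike.not_le_iff_exists.1 h.1
  obtain ⟨v', hv', hv'v⟩ := SetLike.not_le_iff_exists.1 h.2
  obtain ⟨E, hE, hE2, -, -, -, hle⟩ := exists_pair (orderOf_eq_prime hu.2.2 hu1)
    (orderOf_eq_prime hu'.2.2 fun h => hu'u (h ▸ one_mem _)) (hu'.2.1 u hu.1) hu'u
  obtain ⟨F, hF, hF2, -, -, -, hleF⟩ := exists_pair (orderOf_eq_prime hv.2.2 hv1)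
    (orderOf_eq_prime hv'.2.2 fun h => hv'v (h ▸ one_mem _)) (hv'.2.1 v hv.1) hv'v
  have hEQ : E ≤ pCoreOf q K := hle _ hu.1 hu'.1
  have hFR : F ≤ pCoreOf r K := hleF _ hv.1 hv'.1
  obtain ⟨w, hw, hw1, y, hy, hy1, hwy⟩ := gen_ne_bot hE hE2
    ((hEQ.trans (core_le K q)).trans c.nP) (not_dvd_card c.pq.symm c.hP) c.hP1
  have hcw : ∀ x ∈ F, Commute x w := fun x hx => (c.comm w (hEQ hw) x (hFR hx)).symm
  obtain ⟨z, hz, hz1, y', hy', hy'1, hzy⟩ := gen_ne_bot hF hF2
    (le_normalizer_fixed ((hFR.trans (core_le K r)).trans c.nP) hcw)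
    (not_dvd_card c.pr.symm (c.hP.to_le (inf_le_left : fixedIn P w ≤ P)))
    fun h => hy1 (mem_bot.1 (h ▸ mem_fixedIn.2 ⟨hy, hwy⟩))
  exact hy'1 (c.no.eq_one c.mr c.mq c.mp c.qr.symm c.pr.symm c.pq.symm (order_of_elem hF hz hz1)
    (order_of_elem hE hw hw1) (hcw z hz) c.hP (mem_fixedIn.1 hy').1 hzy (mem_fixedIn.1 hy').2)

/-- Commuting elements of orders `q` and `s`, the latter without fixed points on the `r`-core: the
former has no fixed points on `P`. -/
theorem Layer.fpf_of_commute (c : Layer σ p q r s K P) {x f : G} (hx : orderOf x = q) (hxK : x ∈ K)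
    (hf : orderOf f = s) (hfK : f ∈ K) (hxf : Commute x f)
    (hfR : ∀ y ∈ pCoreOf r K, Commute f y → y = 1) : ∀ y ∈ P, Commute x y → y = 1 := by
  have hRp := isPGroup_core (G := G) K r
  have hRK := core_le (G := G) K r
  have hRn := le_normalizer_core (G := G) K r
  have htri : ∀ y ∈ P, Commute x y → Commute f y → y = 1 := fun y hy h1 h2 =>
    c.no.eq_one c.mq c.ms c.mp c.qs c.pq.symm c.ps.symm hx hf hxf c.hP hy h1 h2
  intro y hy hxy
  by_cases hW : ∃ w ∈ pCoreOf r K, w ≠ 1 ∧ Commute x w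
  · obtain ⟨w, hw, hw1, hxw⟩ := hW
    have hfn : ∀ V : Subgroup G, f ∈ normalizer (V : Set G) → f ∈ normalizer (fixedIn V x : Set G) :=
      fun V hV => le_normalizer_fixed (A := zpowers f) (zpowers_le.2 hV) (fun z hz => by
        obtain ⟨i, rfl⟩ := mem_zpowers_iff.1 hz
        exact (hxf.zpow_right i).symm) (mem_zpowers f)
    have hWp : IsPGroup r (fixedIn (pCoreOf r K) x) := hRp.to_le inf_le_left
    have hVp : IsPGroup p (fixedIn P x) := c.hP.to_le inf_le_left
    have hcen := frob c.ps.symm hVp hf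
      (le_normalizer_fixed ((inf_le_left.trans hRK).trans c.nP) fun z hz => (mem_fixedIn.1 hz).2.symm)
      (coprime_card c.pr.symm hWp hVp) (hfn _ (hRn hfK)) (hfn _ (c.nP hfK))
      (fun z hz h => hfR z (mem_fixedIn.1 hz).1 h)
      (fun z hz h => htri z (mem_fixedIn.1 hz).1 (mem_fixedIn.1 hz).2 h)
    obtain ⟨k, hk⟩ := exists_order hRp hw hw1
    exact c.no.eq_one c.mq c.mr c.mp c.qr c.pq.symm c.pr.symm hx hk (hxw.pow_right k) c.hP hy hxy
      ((hcen w (mem_fixedIn.2 ⟨hw, hxw⟩) y (mem_fixedIn.2 ⟨hy, hxy⟩)).pow_left k)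
  · push Not at hW
    have hcen := frob_mul c.pq.symm c.ps.symm c.qs c.hP hx hf hxf (hRK.trans c.nP)
      (coprime_card c.pr.symm hRp c.hP) (hRn hxK) (hRn hfK) (c.nP hxK) (c.nP hfK)
      (fun z hz h => by_contra fun h1 => hW z hz h1 h) hfR htri
    exact absurd ((eq_bot_iff_forall _).2 fun w hw => c.faith w (hRK hw) (hcen w hw)) c.hR1

/-- The data attached to a central element of the `q`-core. -/
theorem Layer.false_of_center (c : Layer σ p q r s K P) {u : G}
    (huC : u ∈ omegaCenter (pCoreOf q K) q) (hu1 : u ≠ 1)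
    (hle : omegaCenter (pCoreOf q K) q ≤ zpowers u) : False := by
  have hQp := isPGroup_core (G := G) K q
  have hRp := isPGroup_core (G := G) K r
  have hQK := core_le (G := G) K q
  have hRK := core_le (G := G) K r
  have huo : orderOf u = q := orderOf_eq_prime huC.2.2 hu1
  have hUn : K ≤ normalizer (zpowers u : Set G) := by
    rw [← le_antisymm hle (zpowers_le.2 huC)]
    exact (le_normalizer_core K q).trans (normalizer_le_omegaCenter _ q)
  have huK : u ∈ K := hQK huC.1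
  have huR : ∀ y ∈ pCoreOf r K, Commute u y := c.comm u huC.1
  have hsR : ∀ e : G, orderOf e = s → Commute e u → ∀ y ∈ pCoreOf r K, Commute e y → y = 1 :=
    fun e he heu y hy hey => c.no.eq_one c.ms c.mq c.mr c.qs.symm c.rs.symm c.qr he huo heu hRp hy hey
      (huR y hy)
  have hsq : ∀ E : Subgroup G, E ≤ K → IsElementaryAbelian s E → Nat.card E = s ^ 2 →
      (∃ e ∈ E, ¬ Commute e u) ∧ ∃ f ∈ E, f ≠ 1 ∧ Commute f u := by
    intro E hEK hE hE2
    refine ⟨?_, ?_⟩
    · by_contra h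
      push Not at h
      obtain ⟨e, he, he1, y, hy, hy1, hey⟩ := gen_ne_bot hE hE2 (hEK.trans (le_normalizer_core K r))
        (not_dvd_card c.rs.symm hRp) c.hR1
      exact hy1 (hsR e (order_of_elem hE he he1) (h e he) y hy hey)
    · have hUp : IsPGroup q (zpowers u) := hQp.to_le (zpowers_le.2 huC.1)
      obtain ⟨f, hf, hf1, w, hw, hw1, hfw⟩ := gen_ne_bot hE hE2 (hEK.trans hUn)
        (not_dvd_card c.qs.symm hUp) (zpowers_ne_bot.2 hu1)
      have hzw : zpowers w = zpowers u := eq_of_le_of_card_ge (zpowers_le.2 hw) (by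
        have hd := orderOf_dvd_of_mem_zpowers hw
        rw [huo] at hd
        rw [Nat.card_zpowers, Nat.card_zpowers, huo,
          ((Nat.dvd_prime Fact.out).1 hd).resolve_left fun h => hw1 (orderOf_eq_one_iff.1 h)])
      obtain ⟨i, hi⟩ := mem_zpowers_iff.1 (hzw.symm ▸ mem_zpowers u : u ∈ zpowers w)
      exact ⟨f, hf, hf1, hi ▸ hfw.zpow_right i⟩
  obtain ⟨H, hHK, hHsol, hHsupp, hHsq⟩ := exists_hall c.sol (fun t => t = q ∨ t = s)
  obtain ⟨E, hEH, hE, hE2⟩ := hHsq s Fact.out (Or.inr rfl) c.sqs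
  obtain ⟨Eq, hEqH, hEq, hEq2⟩ := hHsq q Fact.out (Or.inl rfl) c.sqq
  obtain ⟨⟨e₀, he₀, he₀u⟩, f, hf, hf1, hfu⟩ := hsq E (hEH.trans hHK) hE hE2
  have hfo := order_of_elem hE hf hf1
  have hfK := hHK (hEH hf)
  have hdvd : s ∣ q - 1 := dvd_sub_one (order_of_elem hE he₀ fun h => he₀u (h ▸ Commute.one_left u))
    huo (hUn (hHK (hEH he₀))) he₀u
  have hq2 : q ≠ 2 := fun h => by
    rw [h] at hdvd
    exact (Fact.out : s.Prime).ne_one (Nat.dvd_one.1 hdvd)
  have huP : ∀ y ∈ P, Commute u y → y = 1 := c.fpf_of_commute huo huK hfo hfK hfu.symm (hsR f hfo hfu)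
  -- elements of order `q` commuting with `u` and with an element of order `s` centralizing `u`
  have hforbid : ∀ x f' : G, orderOf x = q → x ∈ K → Commute u x → orderOf f' = s → f' ∈ K →
      Commute f' u → Commute x f' → x ∈ zpowers u := by
    intro x f' hx hxK hux hf' hf'K hf'u hxf'
    by_contra hxu
    obtain ⟨E', hE', hE'2, -, -, hmem, hle'⟩ := exists_pair huo hx hux hxu
    obtain ⟨e, he, he1, y, hy, hy1, hey⟩ := gen_ne_bot hE' hE'2
      ((hle' K huK hxK).trans c.nP) (not_dvd_card c.pq.symm c.hP) c.hP1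
    obtain ⟨i, j, rfl⟩ := hmem e he
    exact hy1 (c.fpf_of_commute (order_of_elem hE' he he1) (hle' K huK hxK he) hf' hf'K
      ((hf'u.symm.pow_left i).mul_left (hxf'.pow_left j)) (hsR f' hf' hf'u) y hy hey)
  -- the `q`-core has rank one
  have hQone : ∀ x ∈ pCoreOf q K, orderOf x = q → x ∈ zpowers u := by
    intro x₀ hx₀Q hx₀o
    by_contra hx₀u
    obtain ⟨Q, hQ⟩ : ∃ Q, pCoreOf q K = Q := ⟨_, rfl⟩
    rw [hQ] at hQp hQK hx₀Q huC
    have hnc : ¬ IsCyclic Q := by
      intro hc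
      obtain ⟨E', hE', hE'2, -, -, -, hle'⟩ := exists_pair huo hx₀o
        (huC.2.1 x₀ hx₀Q).symm hx₀u
      exact CfsgLib.Signalizer.not_isCyclic hE' hE'2.ge
        (isCyclic_of_injective (inclusion (hle' Q huC.1 hx₀Q)) (inclusion_injective _))
    obtain ⟨A, hAn, hAe, hA2⟩ := CfsgLib.PGroupRank.exists_normal_sq hq2 hQp hnc
    haveI := hAn
    haveI : ((zpowers u).subgroupOf Q).Normal := ⟨fun n hn y => by
      rw [mem_subgroupOf] at hn ⊢
      simpa using (mem_normalizer_iff.1 (hUn (hQK y.2)) n).1 hn⟩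
    obtain ⟨a, haA, hau, hacen⟩ := exists_center_lift hQp ((zpowers u).subgroupOf Q) A fun h => by
      have h1 := card_le_of_le h
      rw [hA2, Nat.card_congr (subgroupOfEquivOfLe (zpowers_le.2 huC.1)).toEquiv, Nat.card_zpowers,
        huo] at h1
      exact absurd h1 (not_le.2 (lt_self_pow₀ (Fact.out : q.Prime).one_lt one_lt_two))
    have hcen : ∀ y ∈ Q, Commute y u := huC.2.1
    have hcu : ∀ c ∈ zpowers u, ∀ y ∈ Q, Commute y c := fun c hc y hy => by
      obtain ⟨i, rfl⟩ := mem_zpowers_iff.1 hc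
      exact (hcen y hy).zpow_right i
    let A₀ : Subgroup G :=
      { carrier := {b | b ∈ Q ∧ b ^ q = 1 ∧ ∀ y ∈ Q, y * b * y⁻¹ * b⁻¹ ∈ zpowers u}
        one_mem' := ⟨one_mem _, one_pow _, fun y _ => by simp⟩
        mul_mem' := by
          rintro b b' ⟨hb, hbq, hbc⟩ ⟨hb', hb'q, hb'c⟩
          refine ⟨mul_mem hb hb', ?_, fun y hy => ?_⟩
          · obtain ⟨d, hd⟩ : ∃ d, b⁻¹ * b'⁻¹ * b * b' = d := ⟨_, rfl⟩
            have hdu : d ∈ zpowers u := by
              have h := hbc b'⁻¹ (inv_mem hb')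
              rw [inv_inv] at h
              have h' : b⁻¹ * (b'⁻¹ * b * b' * b⁻¹) * b ∈ zpowers u := by
                have := (mem_normalizer_iff.1 (hUn (hQK (inv_mem hb))) _).1 h
                simpa using this
              rw [← hd]
              simpa [mul_assoc] using h'
            have hswap : b' * b = b * b' * d⁻¹ ^ 1 * 1 := by
              rw [← hd]; group
            simp only [pow_one, mul_one] at hswap
            have hdQ : ∀ y ∈ Q, Commute y d⁻¹ := fun y hy => (hcu d hdu y hy).inv_right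
            have hk : ∀ k : ℕ, b' ^ k * b = b * b' ^ k * d⁻¹ ^ k := by
              intro k
              induction k with
              | zero => simp
              | succ k ih =>
                calc b' ^ (k + 1) * b = b' * (b' ^ k * b) := by rw [pow_succ', mul_assoc]
                  _ = (b' * b) * (b' ^ k * d⁻¹ ^ k) := by rw [ih]; group
                  _ = b * b' * (d⁻¹ * b' ^ k) * d⁻¹ ^ k := by rw [hswap]; group
                  _ = b * b' * (b' ^ k * d⁻¹) * d⁻¹ ^ k := by rw [(hdQ _ (pow_mem hb' k)).eq]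
                  _ = b * b' ^ (k + 1) * d⁻¹ ^ (k + 1) := by rw [pow_succ' b', pow_succ' d⁻¹]; group
            have hn : ∀ n : ℕ, (b * b') ^ n = b ^ n * b' ^ n * d⁻¹ ^ (n.choose 2) := by
              intro n
              induction n with
              | zero => simp
              | succ n ih =>
                have h1 : Commute (b * b') (d⁻¹ ^ n.choose 2) :=
                  ((hdQ _ hb).mul_left (hdQ _ hb')).pow_right _
                calc (b * b') ^ (n + 1) = b ^ n * b' ^ n * (d⁻¹ ^ n.choose 2 * (b * b')) := by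
                      rw [pow_succ, ih, mul_assoc]
                  _ = b ^ n * (b' ^ n * b) * b' * d⁻¹ ^ n.choose 2 := by rw [← h1.eq]; group
                  _ = b ^ n * b * b' ^ n * (d⁻¹ ^ n * b') * d⁻¹ ^ n.choose 2 := by rw [hk]; group
                  _ = b ^ n * b * b' ^ n * (b' * d⁻¹ ^ n) * d⁻¹ ^ n.choose 2 := by
                    rw [((hdQ _ hb').pow_right n).eq]
                  _ = b ^ (n + 1) * b' ^ (n + 1) * (d⁻¹ ^ n * d⁻¹ ^ n.choose 2) := by
                    rw [pow_succ b, pow_succ b']; group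
                  _ = _ := by
                    rw [← pow_add, show n + n.choose 2 = (n + 1).choose 2 by
                      rw [Nat.choose_succ_succ, Nat.choose_one_right]]
            have hdq : d⁻¹ ^ q = 1 := by
              rw [inv_pow, inv_eq_one]
              exact orderOf_dvd_iff_pow_eq_one.1 (huo ▸ orderOf_dvd_of_mem_zpowers hdu)
            obtain ⟨m, hm⟩ : q ∣ q.choose 2 := (Fact.out : q.Prime).dvd_choose_self (by norm_num)
              (lt_of_le_of_ne (Fact.out : q.Prime).two_le hq2.symm)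
            rw [hn, hbq, hb'q, hm, pow_mul, hdq, one_pow, one_mul, one_mul]
          · have h2 := hb'c y hy
            have h1 := hbc y hy
            have h3 : Commute (y * b * y⁻¹ * b⁻¹) (b * b') :=
              (hcu _ h1 _ (mul_mem hb hb')).symm
            rw [show y * (b * b') * y⁻¹ * (b * b')⁻¹ =
              (y * b * y⁻¹ * b⁻¹) * (b * (y * b' * y⁻¹ * b'⁻¹) * b⁻¹) by group,
              (hcu _ h2 b hb).eq, mul_inv_cancel_right]
            exact mul_mem h1 h2
        inv_mem' := by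
          rintro b ⟨hb, hbq, hbc⟩
          refine ⟨inv_mem hb, by rw [inv_pow, hbq, inv_one], fun y hy => ?_⟩
          rw [show y * b⁻¹ * y⁻¹ * b⁻¹⁻¹ = b⁻¹⁻¹⁻¹ * (b * y * b⁻¹ * y⁻¹) * b by group]
          have h1 : b * y * b⁻¹ * y⁻¹ ∈ zpowers u := by
            have := inv_mem (hbc y hy)
            simpa [mul_assoc] using this
          rw [inv_inv, ← (hcu _ h1 _ (inv_mem hb)).eq.symm, mul_assoc, inv_mul_cancel, mul_one]
          exact h1 }
    have hA₀Q : A₀ ≤ Q := fun b hb => hb.1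
    have haA₀ : (a : G) ∈ A₀ := by
      refine ⟨a.2, ?_, fun y hy => ?_⟩
      · simpa using congrArg Subtype.val (hAe.2 a haA)
      · simpa [mem_subgroupOf] using hacen ⟨y, hy⟩
    have hEA₀ : E ≤ normalizer (A₀ : Set G) := by
      intro e he
      have hen : e ∈ normalizer (Q : Set G) := hQ ▸ le_normalizer_core K q (hHK (hEH he))
      rw [mem_normalizer_iff_map_conj_eq]
      refine eq_of_le_of_card_ge ?_ (card_map_of_injective (MulAut.conj e).injective).ge
      rintro _ ⟨b, ⟨hb, hbq, hbc⟩, rfl⟩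
      refine ⟨(mem_normalizer_iff.1 hen b).1 hb, ?_, fun y hy => ?_⟩
      · show (e * b * e⁻¹) ^ q = 1
        rw [conj_pow, hbq, mul_one, mul_inv_cancel]
      · have hy' : e⁻¹ * y * e ∈ Q := by
          have := (mem_normalizer_iff.1 (inv_mem hen) y).1 hy
          simpa using this
        have h := (mem_normalizer_iff.1 (hUn (hHK (hEH he))) _).1 (hbc _ hy')
        show y * (e * b * e⁻¹) * y⁻¹ * (e * b * e⁻¹)⁻¹ ∈ zpowers u
        simpa [mul_assoc] using h
    have hsub : A₀ ≤ zpowers u := gen hE hE2 hEA₀ (not_dvd_card c.qs.symm (hQp.to_le hA₀Q))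
      fun e he he1 b hb heb => by
        by_contra hbu
        have heo := order_of_elem hE he he1
        have hb1 : b ≠ 1 := fun h => hbu (h ▸ one_mem _)
        have hbo : orderOf b = q := orderOf_eq_prime hb.2.1 hb1
        have hbR : ∀ y ∈ pCoreOf r K, Commute b y := c.comm b (hQ ▸ hb.1)
        have hfb := c.fpf_of_commute hbo (hQK hb.1) heo (hHK (hEH he)) heb.symm
          fun y hy hey => c.no.eq_one c.ms c.mq c.mr c.qs.symm c.rs.symm c.qr heo hbo heb hRp hy hey
            (hbR y hy)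
        have hbU : b ∉ omegaCenter Q q := fun h => hbu (hle (hQ ▸ h))
        obtain ⟨y, hy, hyb⟩ : ∃ y ∈ Q, ¬ Commute y b := by
          by_contra h
          push Not at h
          exact hbU ⟨hb.1, h, hb.2.1⟩
        obtain ⟨d, hd⟩ := mem_zpowers_iff.1 (hb.2.2 y hy)
        have hd1 : u ^ d ≠ 1 := fun h => hyb (by
          rw [h, eq_comm, mul_inv_eq_one, mul_inv_eq_iff_eq_mul] at hd
          exact hd)
        have hud : orderOf (u ^ d) = q := orderOf_eq_prime
          (by rw [← zpow_natCast, ← zpow_mul, mul_comm, zpow_mul, zpow_natCast, ← huo, pow_orderOf_eq_one,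
            one_zpow]) hd1
        have hzz : zpowers (u ^ d) = zpowers u := eq_of_le_of_card_ge
          (zpowers_le.2 (zpow_mem (mem_zpowers u) d)) (by rw [Nat.card_zpowers, Nat.card_zpowers, hud, huo])
        have hubd : Commute b (u ^ d) := (hcen b hb.1).zpow_right d
        obtain ⟨z, hz, hz1, hbz⟩ := trick_fix c.pq.symm c.hP c.hP1 hud hbo hubd.symm
          (hzz.symm ▸ hbu) (c.nP (hQK (hcu _ (zpow_mem (mem_zpowers u) d) b hb.1 |> fun _ => zpow_mem huC.1 d)))
          (c.nP (hQK hb.1)) (c.nP (hQK hy)) ((hcen y hy).zpow_right d)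
          (by rw [hubd.eq, hd]; group) fun z hz huz => by
            obtain ⟨i, hi⟩ := mem_zpowers_iff.1 (hzz.symm ▸ mem_zpowers u : u ∈ zpowers (u ^ d))
            exact huP z hz (hi ▸ huz.zpow_left i)
        exact hz1 (hfb z hz hbz)
    exact hau (mem_subgroupOf.2 (hsub haA₀))
  have hQab : ∀ a ∈ pCoreOf q K, ∀ b ∈ pCoreOf q K, Commute a b := by
    have hcyc : IsCyclic (pCoreOf q K) := by
      refine (CfsgLib.UniqueInvol.cyclic_or_quaternion hQp fun x y hx hy => ?_).resolve_right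
        fun h => hq2 h.1
      rw [← Subgroup.orderOf_coe] at hx hy
      have : zpowers (x : G) = zpowers u := eq_of_le_of_card_ge (zpowers_le.2 (hQone _ x.2 hx))
        (by rw [Nat.card_zpowers, Nat.card_zpowers, huo, hx])
      obtain ⟨i, hi⟩ := mem_zpowers_iff.1 (this.symm ▸ hQone _ y.2 hy)
      exact mem_zpowers_iff.2 ⟨i, Subtype.ext (by simpa using hi)⟩
    intro a ha b hb
    letI := hcyc.commGroup
    exact congrArg Subtype.val (mul_comm (⟨a, ha⟩ : pCoreOf q K) ⟨b, hb⟩)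
  -- elements centralizing `u` and the `r`-core
  obtain ⟨M, hM⟩ : ∃ M, K ⊓ centralizer (pCoreOf r K : Set G) ⊓ centralizer ({u} : Set G) = M := ⟨_, rfl⟩
  have hMm : ∀ m, m ∈ M ↔ m ∈ K ∧ (∀ y ∈ pCoreOf r K, Commute m y) ∧ Commute m u := fun m => by
    rw [← hM, mem_inf, mem_inf, mem_centralizer_iff, mem_centralizer_singleton_iff, and_assoc]
    exact and_congr_right fun _ => and_congr
      ⟨fun h y hy => (h y hy).symm, fun h y hy => (h y hy).eq.symm⟩ Iff.rfl
  have hMn : K ≤ normalizer (M : Set G) := by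
    intro k hk
    rw [mem_normalizer_iff_map_conj_eq]
    refine eq_of_le_of_card_ge ?_ (card_map_of_injective (MulAut.conj k).injective).ge
    rintro _ ⟨m, hm, rfl⟩
    obtain ⟨h1, h2, h3⟩ := (hMm m).1 hm
    refine (hMm _).2 ⟨mul_mem (mul_mem hk h1) (inv_mem hk), fun y hy => ?_, ?_⟩
    · have hy' : k⁻¹ * y * k ∈ pCoreOf r K := by
        have := (mem_normalizer_iff.1 (inv_mem (le_normalizer_core K r hk)) y).1 hy
        simpa using this
      have := (h2 _ hy').map (MulAut.conj k).toMonoidHom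
      simpa [mul_assoc] using this
    · obtain ⟨i, hi⟩ := mem_zpowers_iff.1
        ((mem_normalizer_iff.1 (hUn (inv_mem hk)) u).1 (mem_zpowers u))
      have := (hi ▸ h3.zpow_right i).map (MulAut.conj k).toMonoidHom
      simpa [mul_assoc] using this
  have hMQ : ∀ x ∈ M, orderOf x = q → x ∈ zpowers u := by
    intro x hxM hxo
    have hMK : M ≤ K := fun m hm => ((hMm m).1 hm).1
    haveI := c.sol
    have hMr : ∀ y ∈ M, (∃ n : ℕ, orderOf y = r ^ n) → y ∈ pCoreOf r K := by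
      rintro y hy ⟨n, hn⟩
      obtain ⟨hyK, hyR, hyu⟩ := (hMm y).1 hy
      refine mem_core c.sol hyK (k := n) (by rw [← hn, pow_orderOf_eq_one]) fun t ht z hz => ?_
      rcases eq_or_ne z 1 with rfl | hz1
      · exact Commute.one_right y
      haveI := Fact.mk ht
      obtain ⟨k, hk⟩ := exists_order (isPGroup_core K t) hz hz1
      rcases c.supp t ht (hk ▸ Subgroup.orderOf_dvd_natCard K (pow_mem (core_le K t hz) k))
        with rfl | rfl | rfl
      · refine centralizes_unique hQp hQab hQone (le_normalizer_core K _ hyK) ?_ hyu z hz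
        rw [hn]
        exact ((Fact.out : r.Prime).coprime_iff_not_dvd.2 (not_dvd_card c.qr.symm hQp)).pow_left n
      · exact hyR z hz
      · exact absurd (mem_bot.1 (c.hS ▸ hz)) hz1
    obtain ⟨T⟩ : Nonempty (Sylow q M) := inferInstance
    have hTn : (T : Subgroup M).Normal := by
      rw [← normalizer_eq_top_iff]
      refine eq_top_of_card_eq _ (Nat.dvd_antisymm (card_subgroup_dvd_card _) ?_)
      rw [Nat.dvd_iff_prime_pow_dvd_dvd]
      intro t k ht hk
      haveI := Fact.mk ht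
      obtain ⟨T', hT'⟩ : ∃ T' : Sylow t M, (T' : Subgroup M) ≤ normalizer ((T : Subgroup M) : Set M) := by
        rcases eq_or_ne t q with rfl | htq
        · exact ⟨T, le_normalizer⟩
        obtain ⟨T'⟩ : Nonempty (Sylow t M) := inferInstance
        refine ⟨T', fun y hy => ?_⟩
        rcases eq_or_ne y 1 with rfl | hy1
        · exact one_mem _
        obtain ⟨n, hn⟩ := IsPGroup.iff_orderOf.1 T'.isPGroup' ⟨y, hy⟩
        rw [← Subgroup.orderOf_coe] at hn
        obtain ⟨j, hj⟩ := exists_order T'.isPGroup' hy hy1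
        rw [← Subgroup.orderOf_coe, Subgroup.coe_pow] at hj
        have hy' : (y : G) ^ j ∈ K := pow_mem (hMK y.2) j
        rcases c.supp t ht (hj ▸ Subgroup.orderOf_dvd_natCard K hy') with rfl | rfl | rfl
        · exact absurd rfl htq
        · have hyR := hMr y y.2 ⟨n, by rw [Subgroup.orderOf_coe]; exact hn⟩
          refine (centralizer_le_normalizer _) (mem_centralizer_iff.2 fun z _ => Subtype.ext ?_)
          exact ((hMm z).1 z.2).2.1 y hyR
        · obtain ⟨-, h2, h3⟩ := (hMm _).1 (pow_mem y.2 j : (y : G) ^ j ∈ M)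
          exact absurd ((eq_bot_iff_forall _).2 fun z hz => hsR _ hj h3 z hz (h2 z hz)) c.hR1
      refine dvd_trans ?_ (card_dvd_of_le hT')
      rw [T'.card_eq_multiplicity]
      exact Nat.pow_dvd_pow t (ht.pow_dvd_iff_le_factorization Nat.card_pos.ne' |>.1 hk)
    haveI := hTn
    have hxT : (⟨x, hxM⟩ : M) ∈ (T : Subgroup M) := by
      have hxp : IsPGroup q (zpowers (⟨x, hxM⟩ : M)) := IsPGroup.of_card (n := 1) (by
        rw [Nat.card_zpowers, ← Subgroup.orderOf_coe, pow_one]; exact hxo)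
      obtain ⟨T', hT'⟩ := hxp.exists_le_sylow
      letI := Sylow.unique_of_normal T inferInstance
      exact (Subsingleton.elim T' T) ▸ hT' (mem_zpowers _)
    have hxcore : x ∈ pCoreOf q M :=
      ⟨⟨x, hxM⟩, CfsgLib.Solvable.le_pCore q inferInstance T.isPGroup' hxT, rfl⟩
    exact hQone x (le_core ((core_le M q).trans hMK) (isPGroup_core M q)
      (hMn.trans (normalizer_le_normalizer_core M q)) hxcore) hxo
  -- the centralizer of `u` in the Hall subgroup
  obtain ⟨X, hX⟩ : ∃ X, fixedIn H u = X := ⟨_, rfl⟩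
  have hXm : ∀ x ∈ X, x ∈ H ∧ Commute u x := fun x hx => mem_fixedIn.1 (hX ▸ hx)
  have hXH : X ≤ H := fun x hx => (hXm x hx).1
  have hHX : H ≤ normalizer (X : Set G) := by
    intro k hk
    rw [mem_normalizer_iff_map_conj_eq]
    refine eq_of_le_of_card_ge ?_ (card_map_of_injective (MulAut.conj k).injective).ge
    rintro _ ⟨m, hm, rfl⟩
    obtain ⟨h1, h2⟩ := hXm m hm
    refine hX ▸ mem_fixedIn.2 ⟨mul_mem (mul_mem hk h1) (inv_mem hk), ?_⟩
    obtain ⟨i, hi⟩ := mem_zpowers_iff.1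
      ((mem_normalizer_iff.1 (hUn (inv_mem (hHK hk))) u).1 (mem_zpowers u))
    have := (hi ▸ h2.zpow_left i).map (MulAut.conj k).toMonoidHom
    simpa [mul_assoc] using this
  have hXsol : Group.IsSolvable X := by
    haveI := hHsol
    exact Group.isSolvable_of_isSolvable_injective (inclusion_injective hXH)
  have hsingle : ∀ a b : G, orderOf a = s → a ∈ K → orderOf b = s → b ∈ K → Commute a b →
      Commute a u → Commute b u → b ∈ zpowers a := by
    intro a b ha haK hb hbK hab hau hbu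
    by_contra hba
    obtain ⟨E', hE', hE'2, -, -, hmem, hle'⟩ := exists_pair ha hb hab hba
    obtain ⟨⟨e, he, heu⟩, -⟩ := hsq E' (hle' K haK hbK) hE' hE'2
    obtain ⟨i, j, rfl⟩ := hmem e he
    exact heu ((hau.pow_left i).mul_left (hbu.pow_left j))
  haveI := hE.1
  have hEc : ∀ a ∈ E, ∀ b ∈ E, Commute a b := fun a ha b hb =>
    congrArg Subtype.val (mul_comm' (⟨a, ha⟩ : E) ⟨b, hb⟩)
  obtain ⟨D, hD⟩ : ∃ D, pCoreOf q X = D := ⟨_, rfl⟩
  have hDX : D ≤ X := hD ▸ core_le X q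
  have hDp : IsPGroup q D := hD ▸ isPGroup_core X q
  have hDn : H ≤ normalizer (D : Set G) := hD ▸ hHX.trans (normalizer_le_normalizer_core X q)
  have hDe : ∀ e ∈ E, ¬ Commute e u → ∀ w ∈ D, Commute e w → w = 1 := by
    intro e he heu w hw hew
    by_contra hw1
    have hWp : IsPGroup q (fixedIn D e) := hDp.to_le inf_le_left
    have hcen := frob c.rs.symm hRp hfo (N := pCoreOf r K)
      ((inf_le_left.trans (hDX.trans (hXH.trans hHK))).trans (le_normalizer_core K r))
      (coprime_card c.qr hWp hRp)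
      (le_normalizer_fixed (hEH.trans hDn) (fun a ha => hEc a ha e he) hf)
      (le_normalizer_core K r hfK) (fun v hv hfv => by
        by_contra hv1
        obtain ⟨k, hk⟩ := exists_order hWp hv hv1
        obtain ⟨hvD, hev⟩ := mem_fixedIn.1 hv
        have hvu := hforbid (v ^ k) f hk (hHK (hXH (hDX (pow_mem hvD k))))
          (hXm _ (hDX (pow_mem hvD k))).2 hfo hfK hfu (hfv.pow_right k).symm
        have hzz : zpowers (v ^ k) = zpowers u := eq_of_le_of_card_ge (zpowers_le.2 hvu)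
          (by rw [Nat.card_zpowers, Nat.card_zpowers, hk, huo])
        obtain ⟨i, hi⟩ := mem_zpowers_iff.1 (hzz.symm ▸ mem_zpowers u : u ∈ zpowers (v ^ k))
        exact heu (hi ▸ (hev.pow_right k).zpow_right i))
      (hsR f hfo hfu)
    obtain ⟨k, hk⟩ := exists_order hDp hw hw1
    have hwX := hXm _ (hDX (pow_mem hw k))
    have hwu := hMQ (w ^ k) ((hMm _).2 ⟨hHK hwX.1,
      fun y hy => hcen _ (mem_fixedIn.2 ⟨pow_mem hw k, hew.pow_right k⟩) y hy, hwX.2.symm⟩) hk
    have hzz : zpowers (w ^ k) = zpowers u := eq_of_le_of_card_ge (zpowers_le.2 hwu)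
      (by rw [Nat.card_zpowers, Nat.card_zpowers, hk, huo])
    obtain ⟨i, hi⟩ := mem_zpowers_iff.1 (hzz.symm ▸ mem_zpowers u : u ∈ zpowers (w ^ k))
    exact heu (hi ▸ (hew.pow_right k).zpow_right i)
  have hfD : ∀ w ∈ D, Commute f w := fun w hw => (mem_centralizer_singleton_iff.1
    (gen hE hE2 (hEH.trans hDn) (not_dvd_card c.qs.symm hDp) (Y := centralizer ({f} : Set G))
      (fun e he he1 v hv hev => by
        by_cases heu : Commute e u
        · have := hsingle e f (order_of_elem hE he he1) (hHK (hEH he)) hfo hfK (hEc e he f hf) heu hfu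
          obtain ⟨i, rfl⟩ := mem_zpowers_iff.1 this
          exact mem_centralizer_singleton_iff.2 (hev.zpow_left i).eq.symm
        · rw [hDe e he heu v hv hev]
          exact one_mem _) hw)).symm
  obtain ⟨S₁, hS₁⟩ : ∃ S₁, pCoreOf s X = S₁ := ⟨_, rfl⟩
  have hfX : f ∈ X := hX ▸ mem_fixedIn.2 ⟨hEH hf, hfu.symm⟩
  have hS1 : S₁ ≠ ⊥ := by
    intro h
    refine hf1 (mem_bot.1 (h ▸ hS₁ ▸ mem_core hXsol hfX (k := 1) (by rw [pow_one]; exact hE.2 f hf)
      fun t ht y hy => ?_))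
    rcases eq_or_ne y 1 with rfl | hy1
    · exact Commute.one_right f
    haveI := Fact.mk ht
    obtain ⟨k, hk⟩ := exists_order (isPGroup_core X t) hy hy1
    rcases hHsupp t ht (hk ▸ Subgroup.orderOf_dvd_natCard H (pow_mem (hXH (core_le X t hy)) k)) with rfl | rfl
    · exact hfD y (hD ▸ hy)
    · exact absurd (mem_bot.1 (h ▸ hS₁ ▸ hy : y ∈ (⊥ : Subgroup G))) hy1
  have hS₁p : IsPGroup s S₁ := hS₁ ▸ isPGroup_core X s
  obtain ⟨U₁, hU₁⟩ : ∃ U₁, omegaCenter S₁ s = U₁ := ⟨_, rfl⟩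
  obtain ⟨f₁, hf₁, hf₁1⟩ : ∃ f₁ ∈ U₁, f₁ ≠ 1 := by
    by_contra h
    push Not at h
    exact (hU₁ ▸ omegaCenter_ne_bot _ hS₁p hS1 : U₁ ≠ ⊥) ((eq_bot_iff_forall _).2 h)
  have hU₁m : ∀ a ∈ U₁, a ∈ X ∧ a ^ s = 1 := fun a ha =>
    ⟨core_le X s (hS₁.symm ▸ (hU₁ ▸ ha : a ∈ omegaCenter S₁ s).1), (hU₁ ▸ ha : a ∈ omegaCenter S₁ s).2.2⟩
  have hf₁o : orderOf f₁ = s := orderOf_eq_prime (hU₁m f₁ hf₁).2 hf₁1
  have hf₁X := hXm f₁ (hU₁m f₁ hf₁).1
  have hU₁f : U₁ = zpowers f₁ := by
    refine le_antisymm (fun a ha => ?_) (zpowers_le.2 hf₁)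
    rcases eq_or_ne a 1 with rfl | ha1
    · exact one_mem _
    have haX := hXm a (hU₁m a ha).1
    exact hsingle f₁ a hf₁o (hHK hf₁X.1) (orderOf_eq_prime (hU₁m a ha).2 ha1) (hHK haX.1)
      ((hU₁ ▸ ha : a ∈ omegaCenter S₁ s).2.1 f₁ (hU₁ ▸ hf₁ : f₁ ∈ omegaCenter S₁ s).1) hf₁X.2.symm haX.2.symm
  obtain ⟨h, hh, hhu⟩ : ∃ h ∈ Eq, h ∉ zpowers u := by
    by_contra hcon
    push Not at hcon
    have := card_le_of_le (fun a ha => hcon a ha : Eq ≤ zpowers u)
    rw [hEq2, Nat.card_zpowers, huo] at this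
    exact absurd this (not_le.2 (lt_self_pow₀ (Fact.out : q.Prime).one_lt one_lt_two))
  have hho := order_of_elem hEq hh fun h1 => hhu (h1 ▸ one_mem _)
  have hhu' : Commute u h := by
    by_contra hc
    have := dvd_sub_one hho huo (hUn (hHK (hEqH hh))) fun h' => hc h'.symm
    have := Nat.le_of_dvd (by have := (Fact.out : q.Prime).two_le; omega) this
    have := (Fact.out : q.Prime).two_le
    omega
  have hnc : ¬ Commute h f₁ := fun hc =>
    hhu (hforbid h f₁ hho (hHK (hEqH hh)) hhu' hf₁o (hHK hf₁X.1) hf₁X.2.symm hc)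
  have hdvd' : q ∣ s - 1 := dvd_sub_one hho hf₁o (by
    rw [← hU₁f, ← hU₁, ← hS₁]
    exact (hHX.trans (normalizer_le_normalizer_core X s)).trans (normalizer_le_omegaCenter _ s) (hEqH hh)) hnc
  have h1 := Nat.le_of_dvd (by have := (Fact.out : q.Prime).two_le; omega) hdvd
  have h2 := Nat.le_of_dvd (by have := (Fact.out : s.Prime).two_le; omega) hdvd'
  have := (Fact.out : s.Prime).two_le
  omega

/-- The case is impossible. -/
theorem Layer.false (c : Layer σ p q r s K P) : False := by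
  obtain ⟨⟨u, hu⟩, hu1⟩ := ne_bot_iff_exists_ne_one.1
    (omegaCenter_ne_bot (pCoreOf q K) (isPGroup_core K q) c.hQ1)
  obtain ⟨⟨v, hv⟩, hv1⟩ := ne_bot_iff_exists_ne_one.1
    (omegaCenter_ne_bot (pCoreOf r K) (isPGroup_core K r) c.hR1)
  have hu1' : u ≠ 1 := fun h => hu1 (Subtype.ext h)
  have hv1' : v ≠ 1 := fun h => hv1 (Subtype.ext h)
  rcases c.rank_one hu hu1' hv hv1' with h | h
  · exact c.false_of_center hu hu1' h
  · exact c.symm.false_of_center hv hv1' h

end CfsgLib.FourPrimes
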