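import Cfsg.Agent.FourPrimes.Basic

/-!
The case of an `{r, s}`-group acting faithfully both on `P` and on a `q`-group `Q` which acts
faithfully on `P`.
-/

set_option autoImplicit false
set_option linter.style.haveILetI false
set_option linter.unusedSectionVars false

namespace CfsgLib.FourPrimes

open Subgroup Cfsg CfsgLib.Lucido

universe u

variable {G : Type u} [Group G] [Finite G]

theorem le_normalizer_fixed {A P : Subgroup G} {w : G} (hA : A ≤ normalizer (P : Set G))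
    (hc : ∀ a ∈ A, Commute a w) : A ≤ normalizer ((P ⊓ centralizer ({w} : Set G) : Subgroup G) : Set G) := by
  intro e he
  rw [mem_normalizer_iff_map_conj_eq, map_inf _ _ _ (MulAut.conj e).injective,
    mem_normalizer_iff_map_conj_eq.1 (hA he)]
  refine congrArg _ (eq_of_le_of_card_ge ?_ (card_map_of_injective (MulAut.conj e).injective).ge)
  rintro _ ⟨z, hz, rfl⟩
  refine mem_centralizer_singleton_iff.2 ?_
  show e * z * e⁻¹ * w = w * (e * z * e⁻¹)
  have hzw : z * w = w * z := mem_centralizer_singleton_iff.1 hz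
  have he' : e⁻¹ * w = w * e⁻¹ := (hc e he).inv_left.eq
  calc e * z * e⁻¹ * w = e * (z * (e⁻¹ * w)) := by group
    _ = e * (z * w) * e⁻¹ := by rw [he']; group
    _ = (e * w) * z * e⁻¹ := by rw [hzw]; group
    _ = w * (e * z * e⁻¹) := by rw [(hc e he).eq]; group

/-- The elements of a subgroup fixed by `a`. -/
abbrev fixedIn (P : Subgroup G) (a : G) : Subgroup G := P ⊓ centralizer ({a} : Set G)

theorem mem_fixedIn {P : Subgroup G} {a y : G} : y ∈ fixedIn P a ↔ y ∈ P ∧ Commute a y := by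
  rw [fixedIn, mem_inf, mem_centralizer_singleton_iff]
  exact and_congr_right fun _ => ⟨fun h => h.symm, fun h => h.eq.symm⟩

/-- The configuration of the case. -/
structure OneFitting (σ : Set ℕ) (p q r s : ℕ) (L P Q : Subgroup G) : Prop where
  no : NoTriple G σ
  mp : p ∈ σ
  mq : q ∈ σ
  mr : r ∈ σ
  ms : s ∈ σ
  pq : p ≠ q
  pr : p ≠ r
  ps : p ≠ s
  qr : q ≠ r
  qs : q ≠ s
  rs : r ≠ s
  hP : IsPGroup p P
  hQ : IsPGroup q Q
  hP1 : P ≠ ⊥
  hQ1 : Q ≠ ⊥
  nP : L ≤ normalizer (P : Set G)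
  nQ : L ≤ normalizer (Q : Set G)
  nQP : Q ≤ normalizer (P : Set G)
  faithP : ∀ x ∈ L, (∀ y ∈ P, Commute x y) → x = 1
  faithQ : ∀ x ∈ L, (∀ y ∈ Q, Commute x y) → x = 1
  faithQP : ∀ x ∈ Q, (∀ y ∈ P, Commute x y) → x = 1
  sol : Group.IsSolvable L
  supp : ∀ t : ℕ, t.Prime → t ∣ Nat.card L → t = r ∨ t = s
  sqr : HasSq L r
  sqs : HasSq L s

theorem OneFitting.symm {σ : Set ℕ} {p q r s : ℕ} {L P Q : Subgroup G}
    (c : OneFitting σ p q r s L P Q) : OneFitting σ p q s r L P Q :=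
  ⟨c.no, c.mp, c.mq, c.ms, c.mr, c.pq, c.ps, c.pr, c.qs, c.qr, c.rs.symm, c.hP, c.hQ, c.hP1, c.hQ1,
    c.nP, c.nQ, c.nQP, c.faithP, c.faithQ, c.faithQP, c.sol, fun t ht hd => (c.supp t ht hd).symm,
    c.sqs, c.sqr⟩

variable {σ : Set ℕ} {p q r s : ℕ} [Fact p.Prime] [Fact q.Prime] [Fact r.Prime] [Fact s.Prime]
  {L P Q : Subgroup G}

/-- If `a` commutes with an element of the other prime order and has fixed points on `Q`, it has none
on `P`. -/
theorem OneFitting.fix_fpf (c : OneFitting σ p q r s L P Q) {a b : G} (ha : orderOf a = r)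
    (haL : a ∈ L) (hb : orderOf b = s) (hbL : b ∈ L) (hab : Commute a b) {w : G} (hw : w ∈ Q)
    (hw1 : w ≠ 1) (haw : Commute a w) : ∀ y ∈ P, Commute a y → y = 1 := by
  intro y hy hay
  have hW : IsPGroup q (fixedIn Q a) := c.hQ.to_le inf_le_left
  have hV : IsPGroup p (fixedIn P a) := c.hP.to_le inf_le_left
  have hWV : fixedIn Q a ≤ normalizer (fixedIn P a : Set G) :=
    le_normalizer_fixed (inf_le_left.trans c.nQP) fun x hx => (mem_fixedIn.1 hx).2.symm
  have hbn : ∀ K : Subgroup G, b ∈ normalizer (K : Set G) → b ∈ normalizer (fixedIn K a : Set G) :=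
    fun K hK => le_normalizer_fixed (A := zpowers b) (zpowers_le.2 hK) (fun x hx => by
      obtain ⟨i, rfl⟩ := mem_zpowers_iff.1 hx
      exact (hab.zpow_right i).symm) (mem_zpowers b)
  have hcen := frob c.ps.symm hV hb hWV (coprime_card c.pq.symm hW hV) (hbn Q (c.nQ hbL))
    (hbn P (c.nP hbL)) (fun v hv hbv => c.no.eq_one c.mr c.ms c.mq c.rs c.qr.symm c.qs.symm ha hb hab
      c.hQ (mem_fixedIn.1 hv).1 (mem_fixedIn.1 hv).2 hbv)
    (fun v hv hbv => c.no.eq_one c.mr c.ms c.mp c.rs c.pr.symm c.ps.symm ha hb hab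
      c.hP (mem_fixedIn.1 hv).1 (mem_fixedIn.1 hv).2 hbv)
  obtain ⟨k, hk⟩ := exists_order c.hQ hw hw1
  exact c.no.eq_one c.mr c.mq c.mp c.qr.symm c.pr.symm c.pq.symm ha hk (haw.pow_right k) c.hP hy hay
    ((hcen w (mem_fixedIn.2 ⟨hw, haw⟩) y (mem_fixedIn.2 ⟨hy, hay⟩)).pow_left k)

/-- No element of order `r` is centralized by an elementary abelian subgroup of order `s ^ 2`. -/
theorem OneFitting.not_centralized (c : OneFitting σ p q r s L P Q) {u : G} (hu : orderOf u = r)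
    (huL : u ∈ L) {E : Subgroup G} (hEL : E ≤ L) (hE : IsElementaryAbelian s E)
    (hE2 : Nat.card E = s ^ 2) (hc : ∀ e ∈ E, Commute e u) : False := by
  have key : ∀ (t : ℕ) [Fact t.Prime], t ∈ σ → s ≠ t → r ≠ t → ∀ V : Subgroup G, IsPGroup t V →
      L ≤ normalizer (V : Set G) → ∀ y ∈ V, Commute u y → y = 1 := by
    intro t _ ht hst hrt V hV hn y hy huy
    by_contra hy1
    have hVp : IsPGroup t (fixedIn V u) := hV.to_le inf_le_left
    obtain ⟨e, he, he1, v, hv, hv1, hev⟩ := gen_ne_bot hE hE2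
      (le_normalizer_fixed (hEL.trans hn) hc) (not_dvd_card hst hVp)
      fun h => hy1 (mem_bot.1 (h ▸ mem_fixedIn.2 ⟨hy, huy⟩))
    exact hv1 (c.no.eq_one c.ms c.mr ht c.rs.symm hst hrt (order_of_elem hE he he1) hu (hc e he) hV
      (mem_fixedIn.1 hv).1 hev (mem_fixedIn.1 hv).2)
  have hQfix := key q c.mq c.qs.symm c.qr.symm Q c.hQ c.nQ
  have hPfix := key p c.mp c.ps.symm c.pr.symm P c.hP c.nP
  have hcen := frob c.pr.symm c.hP hu c.nQP (coprime_card c.pq.symm c.hQ c.hP) (c.nQ huL) (c.nP huL)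
    hQfix hPfix
  exact c.hQ1 ((eq_bot_iff_forall Q).2 fun w hw => c.faithQP w hw (hcen w hw))

/-- An element of `E` centralizing a nontrivial element of an abelian `r`-group centralizes it all. -/
theorem OneFitting.centralizes (c : OneFitting σ p q r s L P Q) {W : Subgroup G} (hWL : W ≤ L)
    (hW : IsPGroup r W) (hWab : ∀ a ∈ W, ∀ b ∈ W, Commute a b) {e : G} (he : orderOf e = s)
    (heL : e ∈ L) (heW : e ∈ normalizer (W : Set G)) {w₀ : G} (hw₀ : w₀ ∈ W) (hw₀1 : w₀ ≠ 1)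
    (hew : Commute e w₀) : ∀ w ∈ W, Commute e w := by
  intro w hw
  have hcW : e * w * e⁻¹ * w⁻¹ ∈ W := mul_mem ((mem_normalizer_iff.1 heW w).1 hw) (inv_mem hw)
  suffices h : e * w * e⁻¹ * w⁻¹ = 1 from mul_inv_eq_iff_eq_mul.1 (mul_inv_eq_one.1 h)
  obtain ⟨k, hk⟩ := exists_order hW hw₀ hw₀1
  by_cases hfQ : ∀ y ∈ Q, Commute e y → y = 1
  · exact c.faithQ _ (hWL hcW) (wlemma c.qr.symm c.qs.symm c.rs.symm hWab hW c.hQ he heW (c.nQ heL)
      (hWL.trans c.nQ) hfQ w hw)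
  · push Not at hfQ
    obtain ⟨y, hy, hey, hy1⟩ := hfQ
    exact c.faithP _ (hWL hcW) (wlemma c.pr.symm c.ps.symm c.rs.symm hWab hW c.hP he heW (c.nP heL)
      (hWL.trans c.nP) (c.symm.fix_fpf he heL hk (hWL (pow_mem hw₀ k)) (hew.pow_right k) hy hy1 hey) w hw)

/-- Some nontrivial element of an `s ^ 2`-subgroup centralizes the core. -/
theorem OneFitting.exists_centralizing (c : OneFitting σ p q r s L P Q) (hR : pCoreOf r L ≠ ⊥) :
    ∃ f : G, f ∈ L ∧ orderOf f = s ∧ ∀ y ∈ pCoreOf r L, Commute f y := by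
  obtain ⟨E, hEL, hE, hE2⟩ := c.sqs
  obtain ⟨R, hRdef⟩ : ∃ R, pCoreOf r L = R := ⟨_, rfl⟩
  rw [hRdef] at hR ⊢
  have hRp : IsPGroup r R := hRdef ▸ isPGroup_core L r
  have hRL : R ≤ L := hRdef ▸ core_le L r
  have hRn : L ≤ normalizer (R : Set G) := hRdef ▸ le_normalizer_core L r
  obtain ⟨U, hU⟩ : ∃ U, omegaCenter R r = U := ⟨_, rfl⟩
  have hUR : U ≤ R := fun w hw => (hU ▸ hw : w ∈ omegaCenter R r).1
  have hUcen : ∀ a ∈ U, ∀ y ∈ R, Commute y a := fun a ha => (hU ▸ ha : a ∈ omegaCenter R r).2.1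
  have hUn : E ≤ normalizer (U : Set G) := hU ▸ (hEL.trans hRn).trans (normalizer_le_omegaCenter R r)
  have hU1 : U ≠ ⊥ := hU ▸ omegaCenter_ne_bot R hRp hR
  obtain ⟨f, hf, hf1, u, hu, hu1, hfu⟩ :=
    gen_ne_bot hE hE2 hUn (not_dvd_card c.rs.symm (hRp.to_le hUR)) hU1
  have hfo := order_of_elem hE hf hf1
  have hfU : ∀ w ∈ U, Commute f w := c.centralizes (hUR.trans hRL) (hRp.to_le hUR)
    (fun a ha b hb => hUcen b hb a (hUR ha)) hfo (hEL hf) (hUn hf) hu hu1 hfu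
  have hout : ∀ e ∈ E, e ∉ zpowers f → ∀ w ∈ U, Commute e w → w = 1 := by
    intro e he hef w hw hew
    by_contra hw1
    have he1 : e ≠ 1 := fun h => hef (h ▸ one_mem _)
    have heo := order_of_elem hE he he1
    have hall := c.centralizes (hUR.trans hRL) (hRp.to_le hUR)
      (fun a ha b hb => hUcen b hb a (hUR ha)) heo (hEL he) (hUn he) hw hw1 hew
    haveI := hE.1
    obtain ⟨E', hE', hE'2, -, -, hmem, hle⟩ := exists_pair hfo heo
      (congrArg Subtype.val (mul_comm' (⟨f, hf⟩ : E) ⟨e, he⟩)) hef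
    obtain ⟨k, hk⟩ := exists_order hRp (hUR hu) hu1
    refine c.not_centralized hk (hRL (hUR (pow_mem hu k))) (hle L (hEL hf) (hEL he)) hE' hE'2 fun x hx => ?_
    obtain ⟨i, j, rfl⟩ := hmem x hx
    exact ((hfU _ (pow_mem hu k)).pow_left i).mul_left ((hall _ (pow_mem hu k)).pow_left j)
  have hR0 : ∀ e ∈ E, e ∉ zpowers f → ∀ w ∈ R, Commute e w → w = 1 := by
    intro e he hef w hw hew
    by_contra hw1
    have he1 : e ≠ 1 := fun h => hef (h ▸ one_mem _)
    haveI := hE.1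
    have hEe : ∀ a ∈ E, Commute a e := fun a ha => congrArg Subtype.val (mul_comm' (⟨a, ha⟩ : E) ⟨e, he⟩)
    obtain ⟨W, hW⟩ : ∃ W, omegaCenter (fixedIn R e) r = W := ⟨_, rfl⟩
    have hWp : IsPGroup r (fixedIn R e) := hRp.to_le inf_le_left
    have hW1 : W ≠ ⊥ := hW ▸ omegaCenter_ne_bot _ hWp
      fun h => hw1 (mem_bot.1 (h ▸ mem_fixedIn.2 ⟨hw, hew⟩))
    obtain ⟨v, hv, hv1⟩ : ∃ v ∈ W, v ≠ 1 := by
      by_contra h
      push Not at h
      exact hW1 ((eq_bot_iff_forall _).2 h)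
    have hWmem : ∀ x ∈ W, x ∈ R ∧ Commute e x := fun x hx =>
      mem_fixedIn.1 (hW ▸ hx : x ∈ omegaCenter (fixedIn R e) r).1
    have hWn : E ≤ normalizer (W : Set G) :=
      hW ▸ (le_normalizer_fixed (hEL.trans hRn) hEe).trans (normalizer_le_omegaCenter _ r)
    have hWR : W ⊔ U ≤ R := sup_le (fun x hx => (hWmem x hx).1) hUR
    have hab : ∀ a ∈ W ⊔ U, ∀ b ∈ W ⊔ U, Commute a b := by
      have hWab : ∀ a ∈ W, ∀ b ∈ W, Commute a b := fun a ha b hb =>
        (hW ▸ hb : b ∈ omegaCenter (fixedIn R e) r).2.1 a (hW ▸ ha : a ∈ omegaCenter (fixedIn R e) r).1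
      have h1 : W ⊔ U ≤ centralizer (W : Set G) := sup_le
        (fun a ha => mem_centralizer_iff.2 fun b hb => (hWab b hb a ha).eq)
        (fun a ha => mem_centralizer_iff.2 fun b hb => (hUcen a ha b (hWmem b hb).1).eq)
      have h2 : W ⊔ U ≤ centralizer (U : Set G) := fun a ha =>
        mem_centralizer_iff.2 fun b hb => (hUcen b hb a (hWR ha)).eq.symm
      have h3 : W ⊔ U ≤ centralizer ((W ⊔ U : Subgroup G) : Set G) := by
        rw [← le_centralizer_iff]
        exact sup_le (le_centralizer_iff.1 h1) (le_centralizer_iff.1 h2)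
      exact fun a ha b hb => (mem_centralizer_iff.1 (h3 ha) b hb).symm
    have hWUn : e ∈ normalizer ((W ⊔ U : Subgroup G) : Set G) := by
      rw [mem_normalizer_iff_map_conj_eq, Subgroup.map_sup, mem_normalizer_iff_map_conj_eq.1 (hWn he),
        mem_normalizer_iff_map_conj_eq.1 (hUn he)]
    have hall := c.centralizes (hWR.trans hRL) (hRp.to_le hWR) hab (order_of_elem hE he he1) (hEL he)
      hWUn (mem_sup_left hv) hv1 (hWmem v hv).2
    exact hu1 (hout e he hef u hu (hall u (mem_sup_right hu)))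
  refine ⟨f, hEL hf, hfo, fun y hy => ?_⟩
  refine ((mem_centralizer_singleton_iff.1 (gen hE hE2 (hEL.trans hRn) (not_dvd_card c.rs.symm hRp)
    (Y := centralizer ({f} : Set G)) (fun e he he1 w hw hew => ?_) hy))).symm
  by_cases hef : e ∈ zpowers f
  · have : f ∈ zpowers e := (eq_of_le_of_card_ge (zpowers_le.2 hef) (by
      rw [Nat.card_zpowers, Nat.card_zpowers, hfo, order_of_elem hE he he1]) : zpowers e = zpowers f).symm ▸
        mem_zpowers f
    obtain ⟨i, rfl⟩ := mem_zpowers_iff.1 this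
    exact mem_centralizer_singleton_iff.2 (hew.zpow_left i).eq.symm
  · rw [hR0 e he hef w hw hew]
    exact one_mem _

theorem OneFitting.core_ne (c : OneFitting σ p q r s L P Q) : pCoreOf r L ≠ ⊥ := by
  intro hR
  haveI := c.sol
  have hcore : ∀ x ∈ L, (∀ y ∈ pCoreOf s L, Commute x y) →
      ∀ t : ℕ, t.Prime → ∀ y ∈ pCoreOf t L, Commute x y := by
    intro x _ hx t ht y hy
    rcases eq_or_ne y 1 with rfl | hy1
    · exact Commute.one_right x
    haveI := Fact.mk ht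
    obtain ⟨k, hk⟩ := exists_order (isPGroup_core L t) hy hy1
    rcases c.supp t ht (hk ▸ Subgroup.orderOf_dvd_natCard L (pow_mem (core_le L t hy) k)) with rfl | rfl
    · exact absurd (mem_bot.1 (hR ▸ hy)) hy1
    · exact hx y hy
  by_cases hS : pCoreOf s L = ⊥
  · obtain ⟨E, hEL, hE, hE2⟩ := c.sqr
    obtain ⟨e, he, he1⟩ : ∃ e ∈ E, e ≠ 1 := by
      by_contra h
      push Not at h
      rw [(eq_bot_iff_forall E).2 h, card_bot] at hE2
      exact absurd hE2 (Nat.one_lt_pow (by norm_num) (Fact.out : r.Prime).one_lt).ne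
    exact he1 (mem_bot.1 (hR ▸ mem_core c.sol (hEL he) (k := 1) (by rw [pow_one]; exact hE.2 e he)
      (hcore e (hEL he) fun y hy => by rw [mem_bot.1 (hS ▸ hy : y ∈ (⊥ : Subgroup G))]; exact Commute.one_right e)))
  · obtain ⟨g, hgL, hgo, hg⟩ := c.symm.exists_centralizing hS
    exact ne_one_of_order hgo (mem_bot.1 (hR ▸ mem_core c.sol hgL (k := 1)
      (by rw [pow_one, ← hgo, pow_orderOf_eq_one]) (hcore g hgL hg)))

theorem OneFitting.dvd (c : OneFitting σ p q r s L P Q) : s ∣ r - 1 := by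
  have hR := c.core_ne
  have hS := c.symm.core_ne
  obtain ⟨U, hU⟩ : ∃ U, omegaCenter (pCoreOf r L) r = U := ⟨_, rfl⟩
  obtain ⟨V, hV⟩ : ∃ V, omegaCenter (pCoreOf s L) s = V := ⟨_, rfl⟩
  have hU1 : U ≠ ⊥ := hU ▸ omegaCenter_ne_bot _ (isPGroup_core L r) hR
  have hV1 : V ≠ ⊥ := hV ▸ omegaCenter_ne_bot _ (isPGroup_core L s) hS
  have hUm : ∀ x ∈ U, x ∈ pCoreOf r L ∧ x ^ r = 1 := fun x hx =>
    ⟨(hU ▸ hx : x ∈ omegaCenter _ r).1, (hU ▸ hx : x ∈ omegaCenter _ r).2.2⟩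
  have hUL : U ≤ L := fun x hx => core_le L r (hUm x hx).1
  obtain ⟨u, hu, hu1⟩ : ∃ u ∈ U, u ≠ 1 := by
    by_contra h; push Not at h; exact hU1 ((eq_bot_iff_forall _).2 h)
  obtain ⟨z, hz, hz1⟩ : ∃ z ∈ V, z ≠ 1 := by
    by_contra h; push Not at h; exact hV1 ((eq_bot_iff_forall _).2 h)
  have hzm : z ∈ pCoreOf s L ∧ z ^ s = 1 :=
    ⟨(hV ▸ hz : z ∈ omegaCenter _ s).1, (hV ▸ hz : z ∈ omegaCenter _ s).2.2⟩
  have hcomm : ∀ x ∈ pCoreOf r L, ∀ y ∈ pCoreOf s L, Commute y x := by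
    intro x hx y hy
    have h1 : y * x * y⁻¹ * x⁻¹ ∈ pCoreOf r L :=
      mul_mem ((mem_normalizer_iff.1 (le_normalizer_core L r (core_le L s hy)) x).1 hx) (inv_mem hx)
    have h2 : y * x * y⁻¹ * x⁻¹ ∈ pCoreOf s L := by
      rw [show y * x * y⁻¹ * x⁻¹ = y * (x * y⁻¹ * x⁻¹) by group]
      exact mul_mem hy ((mem_normalizer_iff.1 (le_normalizer_core L s (core_le L r hx)) _).1 (inv_mem hy))
    have h3 : y * x * y⁻¹ * x⁻¹ = 1 := mem_bot.1
      ((inf_eq_bot_of_coprime (coprime_card c.rs (isPGroup_core L r) (isPGroup_core L s))) ▸ mem_inf.2 ⟨h1, h2⟩)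
    exact mul_inv_eq_iff_eq_mul.1 (mul_inv_eq_one.1 h3)
  have huo : orderOf u = r := orderOf_eq_prime (hUm u hu).2 hu1
  have hUu : U = zpowers u := by
    refine le_antisymm (fun w hw => ?_) (zpowers_le.2 hu)
    by_contra hwu
    obtain ⟨E, hE, hE2, -, -, -, hle⟩ := exists_pair huo
      (orderOf_eq_prime (hUm w hw).2 fun h => hwu (h ▸ one_mem _))
      ((hU ▸ hw : w ∈ omegaCenter _ r).2.1 u (hUm u hu).1) hwu
    exact c.symm.not_centralized (orderOf_eq_prime hzm.2 hz1) (core_le L s hzm.1)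
      (hle L (hUL hu) (hUL hw)) hE hE2
      fun e he => (hcomm e (hUm e (hle U hu hw he)).1 z hzm.1).symm
  obtain ⟨E, hEL, hE, hE2⟩ := c.sqs
  obtain ⟨e, he, hne⟩ : ∃ e ∈ E, ¬ Commute e u := by
    by_contra h
    push Not at h
    exact c.not_centralized huo (hUL hu) hEL hE hE2 h
  refine dvd_sub_one (order_of_elem hE he fun h => hne (h ▸ Commute.one_left u)) huo ?_ hne
  rw [← hUu, ← hU]
  exact (le_normalizer_core L r).trans (normalizer_le_omegaCenter _ r) (hEL he)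

/-- The case is impossible. -/
theorem OneFitting.false (c : OneFitting σ p q r s L P Q) : False := by
  have h1 := Nat.le_of_dvd (by have := (Fact.out : r.Prime).two_le; omega) c.dvd
  have h2 := Nat.le_of_dvd (by have := (Fact.out : s.Prime).two_le; omega) c.symm.dvd
  have := (Fact.out : r.Prime).two_le
  omega

end CfsgLib.FourPrimes
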